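import Cfsg.Agent.Cit.Nil.RI.TypeI
import Cfsg.Agent.Cit.Nil.RG.Free

/-!
# S1309, (6b), (C3), `r = 4`, any `m`: THEOREM TS4 (helper488, section 2 of `blueprints/R18-6b-r4-helper488.md`)

Type I pairs exist (every `z ∈ Z` has a type I neighbour).

* `WM.wr`, `RR_eq`, `tri` : bridge to `RG` (helper488);
* `cp_of_ti` (1.6) : `(z, a)` C-pair, `(z, t)` type I, then `(t, a)` is a C-pair;
* `Blk Om z t` : same block (connected component of the type I graph); `cp_blk`, `not_cp_blk`;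
* `line`, `exists_fixed` (1.4), without counting;
* `key` (KEY), `four` (FOUR), `exists_cd`, `not_all_moved` (2b), **`ts4`**;
* **`cases`** : commuting elements of `Z` are equal, a C-pair or in the same block.
-/

set_option autoImplicit false
set_option linter.style.haveILetI false
set_option linter.unusedSectionVars false

namespace Cfsg.Agent.Cit.Nil.RI

open Subgroup Cfsg Cfsg.Agent.Cit

open RG (WR CP Ov)

variable {G : Type*} [Group G] [Finite G] {Om : Set (Subgroup G)} {K L M : Subgroup G} {a c d s t u v x y z g : G}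

/-! ### The bridge -/

theorem WM.wr (h : WM Om) : WR Om := WR.of_hyp h.hyp h.card

theorem RR_eq (z : G) : RG.RR Om z = RZ Om z := by
  refine le_antisymm (RG.SS_le fun K hK => Mem.le_RZ (z := z) hK) (RZ_le fun K hK => WR.le_RR (z := z) hK)

theorem InZ.zz (hz : InZ Om z) : z ∈ RG.ZZ Om := hz

theorem inZ_of_zz (hz : z ∈ RG.ZZ Om) : InZ Om z := hz

theorem TI.of_rg (h : WM Om) (hz : InZ Om z) (ht : InZ Om t) (hti : RG.TI Om z t) : TI Om z t := by
  obtain ⟨K, hK⟩ := hz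
  obtain ⟨y, hy, hyy, h1⟩ := hti.2 K hK
  have hn : ¬ ∀ k ∈ K, y * k = k * y := by
    intro h2
    rcases h.wr.Ov_central hK hy h2 with h3 | h3
    · rw [h3, one_mul] at hyy
      exact hK.inZ.z1 h hyy.symm
    · rw [h3, hK.inZ.z2 h] at hyy
      exact hK.inZ.z1 h hyy.symm
  have hn' : ¬ ∀ k ∈ K, t * k = k * t := by
    intro h2
    apply hn
    intro k hk
    have h3 := h1 k hk
    rw [h2 k hk, mul_inv_cancel_right, eq_mul_inv_iff_mul_eq] at h3
    exact h3.symm
  refine TI.of_one h hK ht ?_ ?_ hn'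
  · rintro rfl
    exact hn' fun k hk => (hK.comm_z h hk).symm
  · intro k hk
    rw [h1 k hk]
    exact hK.comm_or h hk hy

/-- the trichotomy -/
theorem tri (h : WM Om) (hz : InZ Om z) (ht : InZ Om t) (hne : z ≠ t) :
    CP Om z t ∨ TI Om z t ∨ (RG.Fr Om z t ∧ RG.Fr Om t z) := by
  rcases h.wr.tri hz.zz ht.zz hne with h1 | h1 | h1
  · exact Or.inl h1
  · exact Or.inr (Or.inl (TI.of_rg h hz ht h1))
  · exact Or.inr (Or.inr h1)

theorem cp_comm (h : WM Om) (hz : InZ Om z) (ht : InZ Om t) (hc : CP Om z t) : z * t = t * z :=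
  h.wr.CP_comm hc hz ht

/-- the groups `R` of a C-pair commute -/
theorem cp_RZ (h : WM Om) (hc : CP Om z t) (hx : x ∈ RZ Om z) (hy : y ∈ RZ Om t) : x * y = y * x := by
  rw [← RR_eq] at hx hy
  exact h.wr.CP_RR hc hx hy

theorem cp_conj (h : WM Om) (hc : CP Om z t) (g : G) : CP Om (g * z * g⁻¹) (g * t * g⁻¹) := h.wr.CP_cj hc g

/-! ### Blocks -/

theorem TI.not_cp (h : WM Om) (hti : TI Om z t) : ¬ CP Om z t := by
  intro hc
  obtain ⟨K, hK⟩ := hti.inZ
  exact hti.nc hK fun k hk => (cp_RZ h hc (hK.le_RZ hk) (z_mem_RZ hti.inT h)).symm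

/-- **(1.6)** -/
theorem cp_of_ti (h : WM Om) (ha : InZ Om a) (hc : CP Om z a) (hti : TI Om z t) : CP Om t a := by
  obtain ⟨K, hK⟩ := ha
  have h1 : ∀ k ∈ K, t * k = k * t := fun k hk => cp_RZ h hc (hti.mem_RZ h) (hK.le_RZ hk)
  refine (h.wr.CP_of_cen hK h1 ?_).symm
  rintro rfl
  exact hti.not_cp h hc

/-- the same block -/
def Blk (Om : Set (Subgroup G)) (z t : G) : Prop := Relation.ReflTransGen (TI Om) z t

theorem Blk.refl (z : G) : Blk Om z z := Relation.ReflTransGen.refl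

theorem Blk.trans (h1 : Blk Om z t) (h2 : Blk Om t u) : Blk Om z u := Relation.ReflTransGen.trans h1 h2

theorem TI.blk (hti : TI Om z t) : Blk Om z t := Relation.ReflTransGen.single hti

theorem Blk.symm (h : WM Om) (h1 : Blk Om z t) : Blk Om t z := by
  induction h1 with
  | refl => exact Blk.refl z
  | tail _ h2 ih => exact (h2.symm h).blk.trans ih

theorem Blk.conj (h : WM Om) (h1 : Blk Om z t) (g : G) : Blk Om (g * z * g⁻¹) (g * t * g⁻¹) := by
  induction h1 with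
  | refl => exact Blk.refl _
  | tail _ h2 ih => exact ih.trans (h2.conj h g).blk

theorem Blk.inZ (hz : InZ Om z) (h1 : Blk Om z t) : InZ Om t := by
  induction h1 with
  | refl => exact hz
  | tail _ h2 _ => exact h2.inT

theorem cp_blk (h : WM Om) (ha : InZ Om a) (hc : CP Om z a) (hb : Blk Om z t) : CP Om t a := by
  induction hb with
  | refl => exact hc
  | tail _ h2 ih => exact cp_of_ti h ha ih h2

theorem not_cp_blk (h : WM Om) (ht : InZ Om t) (hb : Blk Om z t) : ¬ CP Om z t := fun hc =>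
  (cp_blk h ht hc hb).1 rfl

/-! ### (1.4) -/

/-- the product of the action with `z` -/
theorem Mem.as_mul_z (hK : Mem Om z K) (h : WM Om) (h1 : As K t y) : As K t (z * y) := by
  refine ⟨mul_mem (hK.zmem h) h1.1, fun k hk => ?_⟩
  have h2 : y * k * y⁻¹ ∈ K := mul_mem (mul_mem h1.1 hk) (inv_mem h1.1)
  have h3 := hK.comm_z h h2
  rw [h1.2 k hk]
  calc y * k * y⁻¹ = (y * k * y⁻¹) * z * z⁻¹ := by group
    _ = z * (y * k * y⁻¹) * z⁻¹ := by rw [h3]
    _ = _ := by group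

/-- **the third direction** -/
theorem line {t' y' : G} {L' : Subgroup G} (h : WM Om) (hti : TI Om s t) (hti' : TI Om s t') (hL : Mem Om t L)
    (hL' : Mem Om t' L') (hy : As L s y) (hy' : As L' s y') :
    y * t' * y⁻¹ = y' * t * y'⁻¹ ∨ y * t' * y⁻¹ = s * (y' * t * y'⁻¹) := by
  have hsy : y * s = s * y := hy.comm.symm
  have hsy' : y' * s = s * y' := hy'.comm.symm
  have h1 := hti'.conj h y
  have h2 := hti.conj h y'
  rw [hsy, mul_inv_cancel_right] at h1
  rw [hsy', mul_inv_cancel_right] at h2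
  refine eq_or_of_as h hti.inZ (h2.mem_RZ h) (h1.mem_RZ h) fun K hK => ?_
  obtain ⟨u, hu, huu⟩ := hti.exists_as h hK
  obtain ⟨u', hu', huu'⟩ := hti'.exists_as h hK
  obtain ⟨r1, r2, r3⟩ := (hti.symm h).rot h hL hK hy hu
  obtain ⟨p1, p2, p3⟩ := (hti'.symm h).rot h hL' hK hy' hu'
  have e1 : As K (y * t' * y⁻¹) (y * u' * y⁻¹) := by
    have := hu'.conj y
    rwa [r1] at this
  have e2 : As K (y' * t * y'⁻¹) (y' * u * y'⁻¹) := by
    have := hu.conj y'
    rwa [p1] at this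
  by_cases hc : u * u' = u' * u
  · have f1 : y * u' * y⁻¹ = u' := by
      rcases hK.of_comm h hu.1 huu hu'.1 hc with h3 | h3 | h3 | h3
      · rw [h3, one_mul] at huu'
        exact absurd huu'.symm (hK.inZ.z1 h)
      · rw [h3, hK.inZ.z2 h] at huu'
        exact absurd huu'.symm (hK.inZ.z1 h)
      · rw [h3, r2, mul_inv_cancel_right]
      · rw [h3]
        calc y * (s * u) * y⁻¹ = (y * s) * u * y⁻¹ := by group
          _ = s * (y * u) * y⁻¹ := by rw [hsy]; group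
          _ = s * (u * y) * y⁻¹ := by rw [r2]
          _ = s * u := by group
    have f2 : y' * u * y'⁻¹ = u := by
      rcases hK.of_comm h hu'.1 huu' hu.1 hc.symm with h3 | h3 | h3 | h3
      · rw [h3, one_mul] at huu
        exact absurd huu.symm (hK.inZ.z1 h)
      · rw [h3, hK.inZ.z2 h] at huu
        exact absurd huu.symm (hK.inZ.z1 h)
      · rw [h3, p2, mul_inv_cancel_right]
      · rw [h3]
        calc y' * (s * u') * y'⁻¹ = (y' * s) * u' * y'⁻¹ := by group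
          _ = s * (y' * u') * y'⁻¹ := by rw [hsy']; group
          _ = s * (u' * y') * y'⁻¹ := by rw [p2]
          _ = s * u' := by group
    rw [f1] at e1
    rw [f2] at e2
    rcases hK.of_comm h hu.1 huu hu'.1 hc with h3 | h3 | h3 | h3
    · rw [h3, one_mul] at huu'
      exact absurd huu'.symm (hK.inZ.z1 h)
    · rw [h3, hK.inZ.z2 h] at huu'
      exact absurd huu'.symm (hK.inZ.z1 h)
    · rw [h3] at e1
      exact ⟨u, e2, e1⟩
    · rw [h3] at e1
      exact ⟨s * u, hK.as_mul_z h e2, e1⟩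
  · have hanti : u' * u = s * (u * u') := by
      have h3 := hK.anti h hu.1 huu hu'.1 huu' hc
      rw [mul_inv_eq_iff_eq_mul] at h3
      rw [h3, mul_assoc]
    have hss := hK.inZ.z2 h
    have g1 : As K (y * t' * y⁻¹) (u * u') := by
      rcases r3 u' hu'.1 huu' hc with h3 | h3
      · rw [h3] at e1; exact e1
      · rw [h3] at e1
        have := hK.as_mul_z h e1
        rwa [← mul_assoc, hss, one_mul] at this
    have g2 : As K (y' * t * y'⁻¹) (u' * u) := by
      rcases p3 u hu.1 huu (fun h3 => hc h3.symm) with h3 | h3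
      · rw [h3] at e2; exact e2
      · rw [h3] at e2
        have := hK.as_mul_z h e2
        rwa [← mul_assoc, hss, one_mul] at this
    rw [hanti] at g2
    exact ⟨s * (u * u'), g2, hK.as_mul_z h g1⟩

/-- **(1.4)** an involution commuting with `s` fixes a direction -/
theorem exists_fixed (h : WM Om) (hti : TI Om s t) (ha : a * a = 1) (has : a * s = s * a) :
    ∃ u, TI Om s u ∧ (a * u * a⁻¹ = u ∨ a * u * a⁻¹ = s * u) := by
  obtain ⟨L, hL⟩ := hti.inT
  obtain ⟨y, hy, -⟩ := (hti.symm h).exists_as h hL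
  have hti' : TI Om s (a * t * a⁻¹) := by
    have := hti.conj h a
    rwa [has, mul_inv_cancel_right] at this
  have hL' : Mem Om (a * t * a⁻¹) (cj a L) := hL.cj h a
  have hy' : As (cj a L) s (a * y * a⁻¹) := hy.conj_comm has
  have h1 := line h hti hti' hL hL' hy hy'
  have h2 : TI Om s (y * (a * t * a⁻¹) * y⁻¹) := by
    have := hti'.conj h y
    rwa [hy.comm.symm, mul_inv_cancel_right] at this
  refine ⟨_, h2, ?_⟩
  have h3 : a * (y * (a * t * a⁻¹) * y⁻¹) * a⁻¹ = a * y * a⁻¹ * t * (a * y * a⁻¹)⁻¹ := by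
    calc a * (y * (a * t * a⁻¹) * y⁻¹) * a⁻¹ = (a * y * a⁻¹) * ((a * a) * t * (a * a)⁻¹) * (a * y * a⁻¹)⁻¹ := by group
      _ = _ := by rw [ha, one_mul, inv_one, mul_one]
  have hss := hti.inZ.z2 h
  rw [h3]
  rcases h1 with h1 | h1
  · left; exact h1.symm
  · right; rw [h1, ← mul_assoc, hss, one_mul]

/-! ### (KEY), (FOUR) -/

/-- **(KEY)** -/
theorem key (h : WM Om) (hc : InZ Om c) (hx : x * x = 1) (hxc : x * c = c * x) (hf : RG.Fr Om x c) (hv : v ∈ RZ Om c)
    (hvv : v * v = 1) (hm : x * v * x⁻¹ = v ∨ x * v * x⁻¹ = c * v) : x * v * x⁻¹ = v := by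
  rw [← RR_eq] at hv
  have h1 := (h.wr.surj hc hx hxc hf hv hm).1
  rw [h1]
  exact inv_eq_of_mul_eq_one_right hvv

/-- **(FOUR)** -/
theorem four (h : WM Om) (hK : Mem Om z K) (hu : u * u = 1) (hv : v * v = 1) (huv : u * v = v * u) (huK : cj u K = K)
    (hvK : cj v K = K) (nu : ¬ RG.Inn u K) (nv : ¬ RG.Inn v K) (nuv : ¬ RG.Inn (u * v) K) : False := by
  obtain ⟨a, ha⟩ := (h.wr.inn_or_tr hK.1 huK hu).resolve_left nu
  obtain ⟨b, hb⟩ := (h.wr.inn_or_tr hK.1 hvK hv).resolve_left nv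
  obtain ⟨w, hw⟩ : ∃ w, w = v * a * v⁻¹ := ⟨_, rfl⟩
  have hwK : w ∈ K := by rw [hw]; exact RG.conj_mem_of_cj hvK ha.mem
  have hzK : v * zz K * v⁻¹ = zz K := by
    rw [← h.wr.zcj hK.1, hvK]
  have hww : w * w = zz K := by
    calc w * w = v * (a * a) * v⁻¹ := by rw [hw]; group
      _ = zz K := by rw [ha.sq, hzK]
  have h1 : u * w * u⁻¹ = w⁻¹ := by
    calc u * w * u⁻¹ = (u * v) * a * (u * v)⁻¹ := by rw [hw]; group
      _ = (v * u) * a * (v * u)⁻¹ := by rw [huv]
      _ = v * (u * a * u⁻¹) * v⁻¹ := by group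
      _ = v * a⁻¹ * v⁻¹ := by rw [ha.inv]
      _ = w⁻¹ := by rw [hw]; group
  have h2 : w = a ∨ w = a⁻¹ := by
    by_contra hcon
    push Not at hcon
    exact (ha.ne w hwK hww hcon.1 hcon.2).2 h1
  have h3 : b = a ∨ b = a⁻¹ := by
    by_contra hcon
    push Not at hcon
    have h4 : a ≠ b := fun h5 => hcon.1 h5.symm
    have h5 : a ≠ b⁻¹ := fun h6 => hcon.2 (by rw [h6, inv_inv])
    have h6 := hb.ne a ha.mem ha.sq h4 h5
    rw [← hw] at h6
    rcases h2 with h2 | h2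
    · exact h6.1 h2
    · exact h6.2 h2
  exact nuv (h.wr.inn_of_tr hK.1 huK hvK ha hb h3)

/-! ### (b) -/

theorem Fr.mul_comm' {F : Fin 4 → Subgroup G} (f : Fr Om z F) (h : WM Om) {i j : Fin 4} (hij : i ≠ j) {p q : G}
    (hp : p ∈ F i) (hq : q ∈ F j) : p * q = q * p := (f.mem i).comm (f.mem j) h (f.ne hij) hp hq

/-- if `a` moves all members over `s`: an element `d = k₀ k₁` with `[a, d] = c`, `(s, c)` of type I -/
theorem exists_cd (h : WM Om) (hti : TI Om s t) (ha : a * a = 1) (has : a * s = s * a) (hat : a * t = t * a)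
    (hcon : ∀ K, Mem Om s K → cj a K ≠ K) :
    ∃ c d, TI Om s c ∧ a * c = c * a ∧ d ∈ RZ Om s ∧ d ∈ RZ Om c ∧ d * d = 1 ∧ a * d * a⁻¹ = c * d := by
  obtain ⟨K, hK⟩ := hti.inZ
  have hK' := hK.cj_comm h has
  have haK : ∀ M : Subgroup G, cj a (cj a M) = M := fun M => by rw [← cj_mul, ha, cj_one]
  obtain ⟨M, hM, hMK, hMK'⟩ := hK.third hK' h
  -- the frame `K, M, K^a, M^a`
  have hM' := hM.cj_comm h has
  obtain ⟨F, f⟩ : ∃ F : Fin 4 → Subgroup G, Fr Om s F ∧ F 0 = K ∧ F 1 = M ∧ F 2 = cj a K ∧ F 3 = cj a M := by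
    obtain ⟨F, f, h0, h1, h2⟩ := hK.exists_fr3 hM hK' h hMK.symm (fun h1 => hcon K hK h1.symm) hMK'
    refine ⟨F, f, h0, h1, h2, ?_⟩
    obtain ⟨i, hi⟩ := f.cov _ hM'
    have e0 : i ≠ 0 := by
      rintro rfl
      apply hMK'
      rw [← haK M, ← hi, h0]
    have e1 : i ≠ 1 := by
      rintro rfl
      apply hcon M hM
      rw [← hi, h1]
    have e2 : i ≠ 2 := by
      rintro rfl
      apply hMK
      rw [h2] at hi
      exact (cj_inj.1 hi).symm
    have hf4 : ∀ i : Fin 4, i ≠ 0 → i ≠ 1 → i ≠ 2 → i = 3 := by decide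
    have e3 : i = 3 := hf4 i e0 e1 e2
    rw [← hi, e3]
  obtain ⟨f, f0, f1, f2, f3⟩ := f
  obtain ⟨k, hk, htk⟩ := (mem_RZ f h).1 (hti.mem_RZ h)
  have hsz := hti.inZ.z2 h
  have hka : ∀ i, As (F i) t (k i) := fun i => by rw [htk]; exact f.as_prod h hk i
  have hkk : ∀ i, k i * k i = s := fun i => hti.sq_of_as h (f.mem i) (hka i)
  -- `a k₀ a⁻¹ ∈ {k₂, s k₂}`
  have e0 : a * k 0 * a⁻¹ = k 2 ∨ a * k 0 * a⁻¹ = s * k 2 := by
    refine (f.mem 2).as_unique h (hka 2) ?_
    have h1 := (hka 0).conj_comm hat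
    rwa [f0, ← f2] at h1
  have e1 : a * k 1 * a⁻¹ = k 3 ∨ a * k 1 * a⁻¹ = s * k 3 := by
    refine (f.mem 3).as_unique h (hka 3) ?_
    have h1 := (hka 1).conj_comm hat
    rwa [f1, ← f3] at h1
  have c01 : k 0 * k 1 = k 1 * k 0 := f.mul_comm' h (by decide) (hk 0) (hk 1)
  obtain ⟨d, hd⟩ : ∃ d, d = k 0 * k 1 := ⟨_, rfl⟩
  have hdd : d * d = 1 := by
    calc d * d = k 0 * (k 1 * k 0) * k 1 := by rw [hd]; group
      _ = (k 0 * k 0) * (k 1 * k 1) := by rw [← c01]; group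
      _ = 1 := by rw [hkk, hkk, hsz]
  have hsk : ∀ i, s * k i = k i * s := fun i => ((f.mem i).comm_z h (hk i)).symm
  -- `a d a⁻¹ = k₂ k₃ s^i`
  have h23 : a * d * a⁻¹ = k 2 * k 3 ∨ a * d * a⁻¹ = s * (k 2 * k 3) := by
    have h1 : a * d * a⁻¹ = (a * k 0 * a⁻¹) * (a * k 1 * a⁻¹) := by rw [hd]; group
    rw [h1]
    rcases e0 with e0 | e0 <;> rcases e1 with e1 | e1 <;> rw [e0, e1]
    · left; rfl
    · right
      calc k 2 * (s * k 3) = (k 2 * s) * k 3 := by group
        _ = (s * k 2) * k 3 := by rw [hsk]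
        _ = _ := by group
    · right; group
    · left
      calc s * k 2 * (s * k 3) = s * (k 2 * s) * k 3 := by group
        _ = s * (s * k 2) * k 3 := by rw [hsk]
        _ = (s * s) * (k 2 * k 3) := by group
        _ = _ := by rw [hsz, one_mul]
  have htd : d * (k 2 * k 3) = t := by rw [htk, hd]; group
  -- `c`
  obtain ⟨c, hc, hcs⟩ : ∃ c, c = d * (a * d * a⁻¹) ∧ (c = t ∨ c = s * t) := by
    refine ⟨_, rfl, ?_⟩
    have hsd : s * d = d * s := by
      calc s * d = (s * k 0) * k 1 := by rw [hd]; group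
        _ = k 0 * (s * k 1) := by rw [hsk]; group
        _ = d * s := by rw [hsk, hd]; group
    rcases h23 with h1 | h1
    · left; rw [h1, htd]
    · right
      rw [h1]
      calc d * (s * (k 2 * k 3)) = (d * s) * (k 2 * k 3) := by group
        _ = s * (d * (k 2 * k 3)) := by rw [← hsd]; group
        _ = s * t := by rw [htd]
  have hcti : TI Om s c := by
    rcases hcs with rfl | rfl
    · exact hti
    · exact hti.mul_right h
  have hac : a * c = c * a := by
    rcases hcs with rfl | rfl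
    · exact hat
    · rw [← mul_assoc, has, mul_assoc, hat, mul_assoc]
  have hasc : ∀ i, As (F i) c (k i) := by
    intro i
    rcases hcs with rfl | rfl
    · exact hka i
    · have := ((f.mem i).as_z h).mul (hka i)
      rwa [one_mul] at this
  have hdR : d ∈ RZ Om c := by
    rw [hd]
    exact (hcti.symm h).xx_mem h (f.mem 0) (f.mem 1) (f.ne (by decide)) (hasc 0) (hasc 1)
  have hds : d ∈ RZ Om s := by
    rw [hd]
    exact mul_mem ((f.mem 0).le_RZ (hk 0)) ((f.mem 1).le_RZ (hk 1))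
  have hadc : a * d * a⁻¹ = c * d := by
    have h1 : d * c = a * d * a⁻¹ := by rw [hc, ← mul_assoc, hdd, one_mul]
    rw [← h1]
    exact RZ_le_centralizer h hdR
  exact ⟨c, d, hcti, hac, hds, hdR, hdd, hadc⟩

/-- **(2b)** `a` does not act fixed point freely on the members over `s` -/
theorem not_all_moved (h : WM Om) (hti : TI Om s t) (ha : a * a = 1) (has : a * s = s * a) (hat : a * t = t * a)
    (hf : ∀ c, TI Om s c → a * c = c * a → RG.Fr Om a c) : ∃ K, Mem Om s K ∧ cj a K = K := by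
  by_contra hcon
  push Not at hcon
  obtain ⟨c, d, hcti, hac, -, hdR, hdd, hadc⟩ := exists_cd h hti ha has hat hcon
  have h2 := key h hcti.inT ha hac (hf c hcti hac) hdR hdd (Or.inr hadc)
  rw [h2] at hadc
  exact hcti.inT.z1 h (mul_eq_right.1 hadc.symm)

/-! ### TS4 -/

/-- the permutation of the members -/
theorem Fr.exists_perm {F : Fin 4 → Subgroup G} (f : Fr Om z F) (h : WM Om) (hg : g * z = z * g) :
    ∃ σ : Equiv.Perm (Fin 4), ∀ i, cj g (F i) = F (σ i) := by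
  have h1 : ∀ i, ∃ j, F j = cj g (F i) := fun i => f.cov _ ((f.mem i).cj_comm h hg)
  choose φ hφ using h1
  have hinj : Function.Injective φ := by
    intro i j hij
    have h2 := hφ i
    rw [hij, hφ j] at h2
    exact (f.inj (cj_inj.1 h2)).symm
  exact ⟨Equiv.ofBijective φ (Finite.injective_iff_bijective.1 hinj), fun i => (hφ i).symm⟩

set_option maxRecDepth 100000 in
theorem perm_four : ∀ p q : Equiv.Perm (Fin 4), p * p = 1 → q * q = 1 → p * q = q * p → (∃ i, p i = i) →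
    (∃ i, q i = i) → (∃ i, (p * q) i = i) → ∃ i, p i = i ∧ q i = i := by decide

/-- **THEOREM TS4** -/
theorem ts4 (h : WM Om) (hT : ∀ z, InZ Om z → ∃ t, TI Om z t) (hx : InZ Om x) (hs : InZ Om s) (hxs : x * s = s * x)
    (hc : ¬ CP Om x s) (hb : ¬ Blk Om x s) : False := by
  -- a pair in different blocks
  obtain ⟨N, hN⟩ : ∃ N : G → G → Prop, ∀ x s, N x s ↔ (InZ Om x ∧ InZ Om s ∧ x * s = s * x ∧ ¬ CP Om x s ∧ ¬ Blk Om x s) :=
    ⟨_, fun _ _ => Iff.rfl⟩
  have Nsymm : ∀ x s, N x s → N s x := by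
    intro x s h1
    rw [hN] at h1 ⊢
    obtain ⟨a1, a2, a3, a4, a5⟩ := h1
    exact ⟨a2, a1, a3.symm, fun h2 => a4 h2.symm, fun h2 => a5 (h2.symm h)⟩
  have Nfr : ∀ x s, N x s → RG.Fr Om x s := by
    intro x s h1
    rw [hN] at h1
    obtain ⟨a1, a2, a3, a4, a5⟩ := h1
    have hne : x ≠ s := by
      rintro rfl
      exact a5 (Blk.refl x)
    rcases tri h a1 a2 hne with h2 | h2 | h2
    · exact absurd h2 a4
    · exact absurd h2.blk a5
    · exact h2.1
  have Nblk : ∀ x s s', N x s → TI Om s s' → x * s' = s' * x → N x s' := by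
    intro x s s' h1 h2 h3
    rw [hN] at h1 ⊢
    obtain ⟨a1, a2, a3, a4, a5⟩ := h1
    refine ⟨a1, h2.inT, h3, fun h4 => a4 ?_, fun h4 => a5 (h4.trans (h2.symm h).blk)⟩
    exact (cp_of_ti h a1 h4.symm (h2.symm h)).symm
  -- `t`
  have ht : ∀ x s, N x s → ∃ t, TI Om s t ∧ x * t = t * x := by
    intro x s h1
    have h2 := (hN x s).1 h1
    obtain ⟨t0, ht0⟩ := hT s h2.2.1
    have hxx := h2.1.z2 h
    obtain ⟨t, ht, hm⟩ := exists_fixed h ht0 hxx h2.2.2.1
    refine ⟨t, ht, ?_⟩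
    have h3 := key h h2.2.1 hxx h2.2.2.1 (Nfr x s h1) (ht.mem_RZ h) (ht.inT.z2 h) hm
    rwa [mul_inv_eq_iff_eq_mul] at h3
  have hfix : ∀ x s, N x s → ∃ K, Mem Om s K ∧ cj x K = K := by
    intro x s h1
    obtain ⟨t, ht, hxt⟩ := ht x s h1
    have h2 := (hN x s).1 h1
    exact not_all_moved h ht (h2.1.z2 h) h2.2.2.1 hxt fun c hc hxc => Nfr x c (Nblk x s c h1 hc hxc)
  have h0 : N x s := (hN x s).2 ⟨hx, hs, hxs, hc, hb⟩
  obtain ⟨t, ht, hxt⟩ := ht x s h0
  have h1 : N x t := Nblk x s t h0 ht hxt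
  have hst := ht.mul_right h
  have hxst : x * (s * t) = (s * t) * x := by rw [← mul_assoc, hxs, mul_assoc, hxt, mul_assoc]
  have h2 : N x (s * t) := Nblk x s _ h0 hst hxst
  obtain ⟨F, f⟩ := hx.exists_fr h
  obtain ⟨p, hp⟩ := f.exists_perm h hxs.symm
  obtain ⟨q, hq⟩ := f.exists_perm h hxt.symm
  have hss := hs.z2 h
  have htt := ht.inT.z2 h
  have hpp : p * p = 1 := by
    ext i
    have h3 := hp (p i)
    rw [← hp i, ← cj_mul, hss, cj_one] at h3
    have h4 := f.inj h3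
    rw [Equiv.Perm.mul_apply, ← h4]; rfl
  have hqq : q * q = 1 := by
    ext i
    have h3 := hq (q i)
    rw [← hq i, ← cj_mul, htt, cj_one] at h3
    have h4 := f.inj h3
    rw [Equiv.Perm.mul_apply, ← h4]; rfl
  have hpq : ∀ i, cj (s * t) (F i) = F ((p * q) i) := by
    intro i
    rw [cj_mul, hq, hp]; rfl
  have hqp : ∀ i, cj (s * t) (F i) = F ((q * p) i) := by
    intro i
    rw [ht.comm, cj_mul, hp, hq]; rfl
  have hcomm : p * q = q * p := by
    ext i
    have h3 := hqp i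
    rw [hpq i] at h3
    exact congrArg Fin.val (f.inj h3)
  have hfx : ∀ {s' : G} {σ : Equiv.Perm (Fin 4)}, N x s' → (∀ i, cj s' (F i) = F (σ i)) → ∃ i, σ i = i := by
    intro s' σ h3 hσ
    obtain ⟨K, hK, hK'⟩ := hfix s' x (Nsymm _ _ h3)
    obtain ⟨i, rfl⟩ := f.cov K hK
    rw [hσ i] at hK'
    exact ⟨i, f.inj hK'⟩
  obtain ⟨i, hi1, hi2⟩ := perm_four p q hpp hqq hcomm (hfx h0 hp) (hfx h1 hq) (hfx h2 hpq)
  have k1 : cj s (F i) = F i := by rw [hp i, hi1]
  have k2 : cj t (F i) = F i := by rw [hq i, hi2]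
  have k3 : cj (s * t) (F i) = F i := by rw [cj_mul, k2, k1]
  exact four h (f.mem i) hss htt ht.comm k1 k2 (Nfr _ _ (Nsymm _ _ h0) _ (f.mem i) k1)
    (Nfr _ _ (Nsymm _ _ h1) _ (f.mem i) k2) (Nfr _ _ (Nsymm _ _ h2) _ (f.mem i) k3)

/-- **commuting elements of `Z`** -/
theorem cases (h : WM Om) (hT : ∀ z, InZ Om z → ∃ t, TI Om z t) (hx : InZ Om x) (hs : InZ Om s) (hxs : x * s = s * x) :
    CP Om x s ∨ Blk Om x s := by
  by_contra hcon
  push Not at hcon
  exact ts4 h hT hx hs hxs hcon.1 hcon.2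

end Cfsg.Agent.Cit.Nil.RI
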