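import Cfsg.Agent.Cit.Nil.RG.Tri
import Cfsg.Agent.Cit.Nil.ROne.Strong
import Cfsg.Agent.Cit.Nil.RFour.SClosed

/-!
# (6b), any `r`: the strongly closed subgroup if commuting is transitive on `Z` (helper764)

The count of `ROne/Strong.lean` (helper545, section 9) with one quaternion group over each `z ∈ CS`, chosen such
that `K (b z b⁻¹) = cj b (K z)` for the given involution `b` only.

* `DataB.false_of` : the count;
* `closed_of` : `WR Om`, commuting is transitive on `Z = ZZ Om`;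
  (P1) `x ∈ Z`, `z` and `x z x⁻¹` commute, then `z` and `x` commute;
  (P2) `C(h) ≤ N(⟨Z ∩ C(z)⟩)` for `1 ≠ h ∈ ⟨CS⟩`, `CS = {z | some member over z lies in S}`;
  then `⟨Z ∩ C(z)⟩` is strongly closed in `S`, for `z ∈ CS`.
-/

set_option autoImplicit false
set_option linter.style.haveILetI false
set_option linter.unusedSectionVars false

namespace Cfsg.Agent.Cit.Nil.RI

open Subgroup Cfsg Cit QuaternionGroup
open ROne.QEight ROne.StrongCount ROne.Strong
open RG (WR Ov RR CP)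
open RFour (ComZ AZ)

variable {G : Type*} [Group G]

/-- the data on `CS` for a given `b` -/
structure DataB (S : Subgroup G) (CS : Set G) (K : G → Subgroup G) (b : G) : Prop where
  sq : ∀ z ∈ CS, z * z = 1
  ne : ∀ z ∈ CS, z ≠ 1
  mem : ∀ z ∈ CS, z ∈ K z
  le : ∀ z ∈ CS, K z ≤ S
  q8 : ∀ z ∈ CS, Nonempty (K z ≃* QuaternionGroup 2)
  comm : ∀ z ∈ CS, ∀ u ∈ CS, z ≠ u → ∀ a ∈ K z, ∀ b ∈ K u, a * b = b * a
  conjZ : ∀ s ∈ S, ∀ z ∈ CS, s * z * s⁻¹ ∈ CS
  conjK : ∀ z ∈ CS, K (b * z * b⁻¹) = cj b (K z)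

namespace DataB

variable {S : Subgroup G} {CS : Set G} {K : G → Subgroup G} {b : G} (d : DataB S CS K b)

include d

theorem e_z {z : G} (hz : z ∈ CS) (e : K z ≃* Q) : e ⟨z, d.mem z hz⟩ = a 2 := by
  have h1 : ∀ x : Q, x * x = 1 → x ≠ 1 → x = a 2 := by decide
  apply h1
  · rw [← map_mul, ← map_one e]
    exact congrArg e (Subtype.ext (d.sq z hz))
  · intro h2
    rw [← map_one e] at h2
    exact d.ne z hz (congrArg Subtype.val (e.injective h2))

/-- `CS` centralises all `K z` -/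
theorem cen {z u : G} (hz : z ∈ CS) (hu : u ∈ CS) {k : G} (hk : k ∈ K u) : z * k = k * z := by
  by_cases h : z = u
  · subst h
    obtain ⟨e⟩ := d.q8 z hz
    have h1 : ∀ x : Q, a 2 * x = x * a 2 := by decide
    have h2 := h1 (e ⟨k, hk⟩)
    rw [← d.e_z hz e, ← map_mul, ← map_mul] at h2
    exact congrArg Subtype.val (e.injective h2)
  · exact d.comm z hz u hu h z (d.mem z hz) k hk

theorem cenT {t u : G} (ht : t ∈ closure CS) (hu : u ∈ CS) {k : G} (hk : k ∈ K u) : t * k = k * t := by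
  induction ht using closure_induction with
  | mem x hx => exact d.cen hx hu hk
  | one => rw [one_mul, mul_one]
  | mul x y _ _ hx hy => rw [mul_assoc, hy, ← mul_assoc, hx, mul_assoc]
  | inv x _ hx =>
    rw [inv_mul_eq_iff_eq_mul, ← mul_assoc, hx, mul_inv_cancel_right]

theorem commT {t t' : G} (ht : t ∈ closure CS) (ht' : t' ∈ closure CS) : t * t' = t' * t := by
  induction ht' using closure_induction with
  | mem x hx => exact d.cenT ht hx (d.mem x hx)
  | one => rw [one_mul, mul_one]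
  | mul x y _ _ hx hy => rw [← mul_assoc, hx, mul_assoc, hy, mul_assoc]
  | inv x _ hx =>
    rw [eq_inv_mul_iff_mul_eq, ← mul_assoc, ← hx, mul_inv_cancel_right]

theorem sqT {t : G} (ht : t ∈ closure CS) : t * t = 1 := by
  induction ht using closure_induction with
  | mem x hx => exact d.sq x hx
  | one => rw [one_mul]
  | mul x y hx' hy' hx hy =>
    have h1 := d.commT hx' hy'
    calc x * y * (x * y) = x * (y * x) * y := by group
      _ = (x * x) * (y * y) := by rw [← h1]; group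
      _ = 1 := by rw [hx, hy, one_mul]
  | inv x _ hx => rw [← mul_inv_rev, hx, inv_one]

theorem T_le : closure CS ≤ S := (closure_le S).2 fun z hz => d.le z hz (d.mem z hz)

/-- **the count** -/
theorem false_of {w : G} (hne : CS.Nonempty) [Finite G] (hbS : b ∈ S) (hbb : b * b = 1)
    (hmove : ∀ z ∈ CS, b * z * b⁻¹ ≠ z)
    (hw : ∀ s ∈ S, s * b = b * s → w * s * w⁻¹ ∈ S)
    (hfree : ∀ h ∈ closure CS, h * b = b * h → h ≠ 1 → ∀ z ∈ CS, (w * h * w⁻¹) * z ≠ z * (w * h * w⁻¹)) :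
    False := by
  classical
  have hb1 : b⁻¹ = b := inv_eq_of_mul_eq_one_right hbb
  obtain ⟨I, hI, hIσ, hcard⟩ := exists_reps CS (fun z => b * z * b⁻¹) (fun z hz => d.conjZ b hbS z hz)
    (fun z _ => by
      have h1 : b * (b * z * b⁻¹) * b⁻¹ = (b * b) * z * (b * b)⁻¹ := by group
      rw [h1, hbb, one_mul, inv_one, mul_one])
    hmove
  haveI : Fintype I := Fintype.ofFinite _
  haveI : Nonempty I := by
    obtain ⟨z, hz⟩ := hne
    haveI : Nonempty CS := ⟨⟨z, hz⟩⟩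
    have h1 : 0 < Nat.card CS := Nat.card_pos
    by_contra h
    rw [not_nonempty_iff] at h
    have h2 : Nat.card I = 0 := Nat.card_of_isEmpty
    omega
  -- the group `T₀`
  let T₀ : Subgroup G := closure CS ⊓ centralizer {b}
  have hT₀ : ∀ t : T₀, (t : G) ∈ closure CS ∧ (t : G) * b = b * t := fun t =>
    ⟨t.2.1, mem_centralizer_singleton_iff.1 t.2.2⟩
  letI : CommGroup T₀ :=
    { (inferInstance : Group T₀) with
      mul_comm := fun x y => Subtype.ext (d.commT (hT₀ x).1 (hT₀ y).1) }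
  -- the diagonal maps
  have hK : ∀ i : I, ∀ k ∈ K i, b * k * b⁻¹ ∈ K (b * i * b⁻¹) := fun i k hk => by
    rw [d.conjK i (hI i.2)]
    exact conj_mem_cj hk
  have hcomK : ∀ i : I, ∀ k ∈ K i, ∀ l ∈ K i, (b * k * b⁻¹) * l = l * (b * k * b⁻¹) := fun i k hk l hl =>
    d.comm _ (d.conjZ b hbS i (hI i.2)) i (hI i.2) (hmove i (hI i.2)) _ (hK i k hk) l hl
  let e : ∀ i : I, Q ≃* K (i : G) := fun i => (d.q8 i (hI i.2)).some.symm
  let δ : ∀ _ : I, Q →* G := fun i =>
    { toFun := fun q => (e i q : G) * (b * (e i q : G) * b⁻¹)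
      map_one' := by simp
      map_mul' := fun p q => by
        have h1 := hcomK i (e i p) (e i p).2 (e i q) (e i q).2
        rw [map_mul]
        change ((e i p : G) * (e i q : G)) * (b * ((e i p : G) * (e i q : G)) * b⁻¹) = _
        calc ((e i p : G) * (e i q : G)) * (b * ((e i p : G) * (e i q : G)) * b⁻¹) =
            (e i p : G) * ((e i q : G) * (b * (e i p : G) * b⁻¹)) * (b * (e i q : G) * b⁻¹) := by group
          _ = (e i p : G) * ((b * (e i p : G) * b⁻¹) * (e i q : G)) * (b * (e i q : G) * b⁻¹) := by rw [h1]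
          _ = _ := by group }
  have hδ : ∀ i q, δ i q = (e i q : G) * (b * (e i q : G) * b⁻¹) := fun i q => rfl
  have hcom4 : ∀ i j : I, i ≠ j → ∀ k ∈ K i, ∀ l ∈ K j, Commute (k * (b * k * b⁻¹)) (l * (b * l * b⁻¹)) := by
    intro i j hij k hk l hl
    have hij' : (i : G) ≠ j := fun h => hij (Subtype.ext h)
    have c1 : Commute k l := d.comm i (hI i.2) j (hI j.2) hij' k hk l hl
    have c2 : Commute k (b * l * b⁻¹) :=
      d.comm i (hI i.2) _ (d.conjZ b hbS j (hI j.2)) (hIσ i i.2 j j.2) k hk _ (hK j l hl)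
    have c3 : Commute (b * k * b⁻¹) l :=
      d.comm _ (d.conjZ b hbS i (hI i.2)) j (hI j.2) (fun h => hIσ j j.2 i i.2 h.symm) _ (hK i k hk) l hl
    have c4 : Commute (b * k * b⁻¹) (b * l * b⁻¹) := by
      refine d.comm _ (d.conjZ b hbS i (hI i.2)) _ (d.conjZ b hbS j (hI j.2)) (fun h => hij' ?_) _ (hK i k hk)
        _ (hK j l hl)
      exact mul_left_cancel (mul_right_cancel h)
    exact (c1.mul_right c2).mul_left (c3.mul_right c4)
  have hcomδ : Pairwise fun i j : I => ∀ (x y : Q), Commute (δ i x) (δ j y) := fun i j hij x y =>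
    hcom4 i j hij _ (e i x).2 _ (e j y).2
  let Δ : (I → Q) →* G := MonoidHom.noncommPiCoprod δ hcomδ
  -- the `δ` lie in `C_S(b)` and commute with `T₀`
  have hδS : ∀ i q, δ i q ∈ S ⊓ centralizer {b} := by
    intro i q
    rw [hδ]
    have h1 : (e i q : G) ∈ S := d.le i (hI i.2) (e i q).2
    refine ⟨S.mul_mem h1 (S.mul_mem (S.mul_mem hbS h1) (S.inv_mem hbS)), mem_centralizer_singleton_iff.2 ?_⟩
    have h2 := hcomK i (e i q) (e i q).2 (e i q) (e i q).2
    calc (e i q : G) * (b * (e i q : G) * b⁻¹) * b = (b * (e i q : G) * b⁻¹) * (e i q : G) * b := by rw [h2]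
      _ = b * ((e i q : G) * (b * (e i q : G) * b⁻¹)) := by rw [hb1]; simp only [mul_assoc]
  have hΔS : ∀ x, Δ x ∈ S ⊓ centralizer {b} := by
    intro x
    rw [MonoidHom.noncommPiCoprod_apply]
    exact Subgroup.noncommProd_mem _ _ fun i _ => hδS i (x i)
  have hΔT : ∀ (t : T₀) (x : I → Q), Commute (t : G) (Δ x) := by
    intro t x
    have h1 : Δ x ∈ centralizer {(t : G)} := by
      rw [MonoidHom.noncommPiCoprod_apply]
      refine Subgroup.noncommProd_mem _ _ fun i _ => mem_centralizer_singleton_iff.2 ?_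
      have h2 : Commute (t : G) (e i (x i) : G) := d.cenT (hT₀ t).1 (hI i.2) (e i (x i)).2
      have h3 : Commute (t : G) (b * (e i (x i) : G) * b⁻¹) :=
        d.cenT (hT₀ t).1 (d.conjZ b hbS i (hI i.2)) (hK i _ (e i (x i)).2)
      exact (h2.mul_right h3).symm
    exact (mem_centralizer_singleton_iff.1 h1).symm
  let f₀ : T₀ →* G := { toFun := Subtype.val, map_one' := rfl, map_mul' := fun _ _ => rfl }
  let Φ : T₀ × (I → Q) →* G := f₀.noncommCoprod Δ hΔT
  have hΦ : ∀ p, Φ p = (p.1 : G) * Δ p.2 := fun p => rfl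
  have hΦS : ∀ p, Φ p ∈ S ⊓ centralizer {b} := by
    intro p
    rw [hΦ]
    exact mul_mem ⟨d.T_le (hT₀ p.1).1, p.1.2.2⟩ (hΔS p.2)
  let Ψ : T₀ × (I → Q) →* G := (MulAut.conj w).toMonoidHom.comp Φ
  have hΨ : ∀ p, Ψ p = w * Φ p * w⁻¹ := fun p => rfl
  have hΨS : ∀ p, Ψ p ∈ S := fun p => hw _ (hΦS p).1 (mem_centralizer_singleton_iff.1 (hΦS p).2)
  obtain ⟨z, hz⟩ := hne
  -- the elements `τ`
  have hτm : ∀ i : I, (i : G) * (b * i * b⁻¹) ∈ T₀ := by
    intro i
    have hi := hI i.2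
    have h1 := hcomK i i (d.mem i hi) i (d.mem i hi)
    refine ⟨mul_mem (subset_closure hi) (subset_closure (d.conjZ b hbS i hi)), mem_centralizer_singleton_iff.2 ?_⟩
    calc (i : G) * (b * i * b⁻¹) * b = (b * i * b⁻¹) * i * b := by rw [h1]
      _ = b * ((i : G) * (b * i * b⁻¹)) := by rw [hb1]; simp only [mul_assoc]
  let τ : I → T₀ := fun i => ⟨(i : G) * (b * i * b⁻¹), hτm i⟩
  have hτ : ∀ i, τ i ≠ 1 := by
    intro i h
    have hi := hI i.2
    have h1 : (i : G) * (b * i * b⁻¹) = 1 := congrArg Subtype.val h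
    apply hmove i hi
    have h2 := d.sq i hi
    exact mul_left_cancel (h1.trans h2.symm)
  have hea : ∀ i : I, (e i (a 2) : G) = i := by
    intro i
    have h1 := d.e_z (hI i.2) (d.q8 i (hI i.2)).some
    change (((d.q8 i (hI i.2)).some.symm (a 2) : K (i : G)) : G) = i
    rw [← h1, MulEquiv.symm_apply_apply]
  refine count (fun t => Subtype.ext (d.sqT (hT₀ t).1)) τ hτ ((centralizer {z}).comap Ψ) ?_ ?_
  · intro t x hx
    rw [mem_comap, mem_centralizer_singleton_iff, hΨ] at hx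
    have h1 : Φ (t, fun i => (a 2 : Q) ^ x i) = ((t * ∏ i, τ i ^ x i : T₀) : G) := by
      rw [hΦ]
      change (t : G) * Δ (fun i => (a 2 : Q) ^ x i) = (t : G) * ((∏ i, τ i ^ x i : T₀) : G)
      congr 1
      refine pi_coe f₀ δ hcomδ τ (fun i => ?_) x
      rw [hδ, hea]
      rfl
    rw [h1] at hx
    by_contra h3
    refine hfree _ (hT₀ (t * ∏ i, τ i ^ x i)).1 (hT₀ (t * ∏ i, τ i ^ x i)).2 (fun h4 => h3 (Subtype.ext h4)) z hz hx
  · refine (index_le Ψ z CS fun p => d.conjZ _ (hΨS p) z hz).trans ?_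
    rwa [Nat.card_eq_fintype_card (α := I)] at hcard

end DataB

/-- the involutions of the members in `S` -/
def CS (Om : Set (Subgroup G)) (S : Subgroup G) : Set G := {z | ∃ K ∈ Ov Om z, K ≤ S}

section

variable {Om : Set (Subgroup G)} {z u s x : G} {S : Subgroup G}

theorem CS_zz (hz : z ∈ CS Om S) : z ∈ RG.ZZ Om := by
  obtain ⟨K, hK, -⟩ := hz
  exact ⟨K, hK⟩

theorem CS_conj (h : WR Om) (hz : z ∈ CS Om S) (hs : s ∈ S) : s * z * s⁻¹ ∈ CS Om S := by
  obtain ⟨K, hK, hKS⟩ := hz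
  refine ⟨cj s K, h.Ov_cj hK s, ?_⟩
  rintro _ ⟨k, hk, rfl⟩
  exact mul_mem (mul_mem hs (hKS hk)) (inv_mem hs)

/-- different elements of `CS` : the members in `S` commute -/
theorem CS_cp (h : WR Om) (hS : IsPGroup 2 S) (hz : z ∈ CS Om S) (hu : u ∈ CS Om S) (hne : z ≠ u) : CP Om z u := by
  obtain ⟨K, hK, hKS⟩ := hz
  obtain ⟨L, hL, hLS⟩ := hu
  have h1 := h.pg K hK.1 L hL.1 S hS hKS hLS (h.Ov_ne hK hL hne)
  exact h.CP_of_cen hK (fun k hk => (h1 k hk u (h.Ov_mem hL)).symm) hne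

theorem CS_comm (h : WR Om) (hS : IsPGroup 2 S) (hz : z ∈ CS Om S) (hu : u ∈ CS Om S) : z * u = u * z := by
  by_cases hne : z = u
  · rw [hne]
  · exact h.CP_comm (CS_cp h hS hz hu hne) (CS_zz hz) (CS_zz hu)

end

variable {Om : Set (Subgroup G)}

theorem comZ_of (h : WR Om)
    (tr : ∀ z ∈ RG.ZZ Om, ∀ s ∈ RG.ZZ Om, ∀ s' ∈ RG.ZZ Om, z * s = s * z → z * s' = s' * z → s * s' = s' * s) :
    ComZ (RG.ZZ Om) where
  sq _ hz := h.zz_sq hz
  ne _ hz := h.zz_ne hz
  conj _ hz g := h.zz_cj hz g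
  tr := tr

/-- a choice of members adapted to the involution `b` -/
theorem exists_K [Finite G] (h : WR Om) {S : Subgroup G} {b : G} (hbS : b ∈ S) (hbb : b * b = 1)
    (hmove : ∀ z ∈ CS Om S, b * z * b⁻¹ ≠ z) :
    ∃ K : G → Subgroup G, (∀ z ∈ CS Om S, K z ∈ Ov Om z ∧ K z ≤ S) ∧
      ∀ z ∈ CS Om S, K (b * z * b⁻¹) = cj b (K z) := by
  classical
  let e : G → ℕ := fun g => (Finite.equivFin G g : ℕ)
  have he : ∀ x y : G, e x = e y → x = y := fun x y hxy => (Finite.equivFin G).injective (Fin.ext hxy)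
  have hex : ∀ z : G, ∃ K : Subgroup G, z ∈ CS Om S → K ∈ Ov Om z ∧ K ≤ S := by
    intro z
    by_cases hz : z ∈ CS Om S
    · obtain ⟨K, hK, hKS⟩ := hz
      exact ⟨K, fun _ => ⟨hK, hKS⟩⟩
    · exact ⟨⊥, fun h1 => absurd h1 hz⟩
  choose K0 hK0 using hex
  have hbz : ∀ z, b * (b * z * b⁻¹) * b⁻¹ = z := by
    intro z
    have h1 : b * (b * z * b⁻¹) * b⁻¹ = (b * b) * z * (b * b)⁻¹ := by group
    rw [h1, hbb, one_mul, inv_one, mul_one]
  have hbK : ∀ L : Subgroup G, cj b (cj b L) = L := by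
    intro L
    rw [← cj_mul, hbb, cj_one]
  have hle : ∀ L : Subgroup G, L ≤ S → cj b L ≤ S := by
    rintro L hL _ ⟨k, hk, rfl⟩
    exact mul_mem (mul_mem hbS (hL hk)) (inv_mem hbS)
  refine ⟨fun z => if e z < e (b * z * b⁻¹) then K0 z else cj b (K0 (b * z * b⁻¹)), ?_, ?_⟩
  · intro z hz
    have hz' := CS_conj h hz hbS
    by_cases h1 : e z < e (b * z * b⁻¹)
    · simp only [if_pos h1]
      exact hK0 z hz
    · simp only [if_neg h1]
      obtain ⟨h2, h3⟩ := hK0 _ hz'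
      refine ⟨?_, hle _ h3⟩
      have h4 := h.Ov_cj h2 b
      rwa [hbz] at h4
  · intro z hz
    have h0 : e z ≠ e (b * z * b⁻¹) := fun h1 => hmove z hz (he _ _ h1).symm
    simp only [hbz]
    by_cases h1 : e z < e (b * z * b⁻¹)
    · rw [if_pos h1, if_neg (by omega)]
    · rw [if_neg h1, if_pos (by omega), hbK]

/-- **the strongly closed subgroup** -/
theorem closed_of [Finite G] (h : WR Om) (c : ComZ (RG.ZZ Om))
    (hP : ∀ z ∈ RG.ZZ Om, ∀ x ∈ RG.ZZ Om, z * (x * z * x⁻¹) = (x * z * x⁻¹) * z → z * x = x * z)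
    (S : Sylow 2 G) {z : G} (hz : z ∈ CS Om (S : Subgroup G))
    (P2 : ∀ t ∈ closure (CS Om (S : Subgroup G)), t ≠ 1 → ∀ c, c * t = t * c →
      c ∈ normalizer (AZ (RG.ZZ Om) z : Set G)) :
    IsStronglyClosed (AZ (RG.ZZ Om) z) (S : Subgroup G) := by
  haveI : Fact (Nat.Prime 2) := ⟨Nat.prime_two⟩
  have hzZ : z ∈ RG.ZZ Om := CS_zz hz
  obtain ⟨A, hA⟩ : ∃ A, A = AZ (RG.ZZ Om) z := ⟨_, rfl⟩
  obtain ⟨M, hM⟩ : ∃ M, M = normalizer (A : Set G) := ⟨_, rfl⟩
  rw [← hA] at P2 ⊢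
  rw [← hM] at P2
  have hzA : z ∈ A := by rw [hA]; exact ComZ.self_mem hzZ
  have hAc : ∀ x ∈ A, ∀ y ∈ A, x * y = y * x := by rw [hA]; exact c.AZ_comm hzZ
  have hA2 : ∀ x ∈ A, x * x = 1 := by rw [hA]; exact c.AZ_sq hzZ
  have hAp : IsPGroup 2 A := by rw [hA]; exact c.AZ_two hzZ
  have hCA : ∀ u ∈ CS Om (S : Subgroup G), u ∈ A := fun u hu => by
    rw [hA]; exact subset_closure ⟨CS_zz hu, CS_comm h S.isPGroup' hz hu⟩
  have hMof : ∀ g : G, ∀ u ∈ RG.ZZ Om, z * u = u * z → u * (g * u * g⁻¹) = (g * u * g⁻¹) * u → g ∈ M := by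
    intro g u hu hzu hg
    have h1 := c.mem_norm_of hu hg
    rw [← c.AZ_eq hzZ hu hzu, ← hA, ← hM] at h1
    exact h1
  have hSM : (S : Subgroup G) ≤ M := by
    intro s hs
    exact hMof s z hzZ rfl (CS_comm h S.isPGroup' hz (CS_conj h hz hs))
  have hAM : A ≤ M := by rw [hM]; exact le_normalizer
  have hAS : A ≤ S := by
    have h1 : IsPGroup 2 (A ⊔ S : Subgroup G) :=
      IsPGroup.to_sup_of_normal_left' hAp S.isPGroup' (by rw [← hM]; exact hSM)
    have h2 := S.is_maximal' h1 le_sup_right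
    rw [← h2]
    exact le_sup_left
  -- `Z ∩ M` commutes with `z`
  have hZM : ∀ x ∈ RG.ZZ Om, x ∈ M → z * x = x * z := by
    intro x hx hxM
    refine hP z hzZ x hx ?_
    have h1 : x * z * x⁻¹ ∈ A := by
      rw [hM] at hxM
      exact (mem_normalizer_iff.1 hxM z).1 hzA
    exact hAc _ hzA _ h1
  -- (P1)
  have P1 : ∀ u ∈ RG.ZZ Om, z * u = u * z → ∀ x, x * u * x⁻¹ ∈ M → x ∈ M := by
    intro u hu hzu x hx
    have h1 := hZM _ (c.conj u hu x) hx
    exact hMof x u hu hzu (c.tr z hzZ u hu _ (c.conj u hu x) hzu h1)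
  -- (P3)
  have P3 : ∀ x ∈ A, ∀ R : Subgroup G, IsPGroup 2 R → (∀ r ∈ R, r * x = x * r) →
      ∃ d, d * x = x * d ∧ cj d R ≤ M := by
    intro a ha R hR hRa
    obtain ⟨H, hH⟩ : ∃ H : Subgroup G, H = centralizer {a} := ⟨_, rfl⟩
    have hAH : A ≤ H := fun x hx => by
      rw [hH]; exact mem_centralizer_singleton_iff.2 (hAc x hx a ha)
    have hRH : R ≤ H := fun x hx => by rw [hH]; exact mem_centralizer_singleton_iff.2 (hRa x hx)
    obtain ⟨P, hP'⟩ := (hAp.comap_subtype (K := H)).exists_le_sylow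
    have hP2 : IsPGroup 2 ((P : Subgroup H).map H.subtype) := P.isPGroup'.map _
    have hAP : A ≤ (P : Subgroup H).map H.subtype := fun x hx => ⟨⟨x, hAH hx⟩, hP' (mem_subgroupOf.2 hx), rfl⟩
    have hPM : (P : Subgroup H).map H.subtype ≤ M := by
      by_contra hcon
      obtain ⟨b, hb, hb1, hb2⟩ := exists_normalizing hP2
        (A := (P : Subgroup H).map H.subtype ⊓ M) inf_le_left (fun h1 => hcon (inf_eq_left.1 h1))
      apply hb1
      refine Subgroup.mem_inf.2 ⟨hb, ?_⟩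
      have h1 : z ∈ (P : Subgroup H).map H.subtype ⊓ M := Subgroup.mem_inf.2 ⟨hAP hzA, hAM hzA⟩
      have h2 := conj_mem_cj (g := b) h1
      rw [hb2] at h2
      exact P1 z hzZ rfl b h2.2
    obtain ⟨m, hm⟩ := exists_le_cj P (hR.comap_subtype (K := H))
    refine ⟨(m : G)⁻¹, ?_, ?_⟩
    · have h0 : (m : G) ∈ centralizer {a} := by
        rw [← hH]; exact m.2
      have h1 := mem_centralizer_singleton_iff.1 h0
      rw [inv_mul_eq_iff_eq_mul, ← mul_assoc, h1, mul_inv_cancel_right]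
    · intro x hx
      rw [mem_cj, inv_inv] at hx
      have h1 : (⟨(m : G) * x * (m : G)⁻¹, hRH hx⟩ : H) ∈ cj m (P : Subgroup H) := hm (mem_subgroupOf.2 hx)
      rw [mem_cj] at h1
      have h2 := hPM (mem_map_of_mem H.subtype h1)
      have h3 : H.subtype (m⁻¹ * (⟨(m : G) * x * (m : G)⁻¹, hRH hx⟩ : H) * m) = x := by
        change (m : G)⁻¹ * ((m : G) * x * (m : G)⁻¹) * (m : G) = x
        group
      rwa [h3] at h2
  -- the end
  refine ⟨hAS, fun x hx g hg => ?_⟩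
  by_contra hb
  obtain ⟨b, hbdef⟩ : ∃ b, b = g * x * g⁻¹ := ⟨_, rfl⟩
  rw [← hbdef] at hg hb
  have hbb : b * b = 1 := by
    have h1 : b * b = g * (x * x) * g⁻¹ := by rw [hbdef]; group
    rw [h1, hA2 x hx, mul_one, mul_inv_cancel]
  have hgb : g⁻¹ * b * g = x := by rw [hbdef]; group
  let R : Subgroup G := cj g⁻¹ ((S : Subgroup G) ⊓ centralizer {b})
  have hR : ∀ r ∈ R, g * r * g⁻¹ ∈ (S : Subgroup G) ⊓ centralizer {b} := by
    intro r hr
    rw [mem_cj, inv_inv] at hr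
    exact hr
  have hR2 : IsPGroup 2 R := (S.isPGroup'.to_le inf_le_left).map _
  obtain ⟨d, hd, hdR⟩ := P3 x hx R hR2 (fun r hr => by
    have h1 := mem_centralizer_singleton_iff.1 (hR r hr).2
    rw [← hgb]
    calc r * (g⁻¹ * b * g) = g⁻¹ * ((g * r * g⁻¹) * b) * g := by group
      _ = g⁻¹ * (b * (g * r * g⁻¹)) * g := by rw [h1]
      _ = _ := by group)
  obtain ⟨m, hm, hmS⟩ := exists_cj_le S hSM (R := cj d R) (hR2.map _) hdR
  obtain ⟨w, hw⟩ : ∃ w, w = m * d * g⁻¹ := ⟨_, rfl⟩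
  have hkey : ∀ s ∈ (S : Subgroup G), s * b = b * s → w * s * w⁻¹ ∈ (S : Subgroup G) := by
    intro s hs hsb
    have h1 : g⁻¹ * s * g⁻¹⁻¹ ∈ R := conj_mem_cj ⟨hs, mem_centralizer_singleton_iff.2 hsb⟩
    have h2 := hmS (conj_mem_cj (g := m) (conj_mem_cj (g := d) h1))
    have h3 : w * s * w⁻¹ = m * (d * (g⁻¹ * s * g⁻¹⁻¹) * d⁻¹) * m⁻¹ := by rw [hw]; group
    rw [h3]
    exact h2
  have hwM : w ∉ M := by
    intro h1
    have h2 : b = w⁻¹ * (m * x * m⁻¹) * w⁻¹⁻¹ := by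
      have h3 : d⁻¹ * x * d = x := by
        rw [mul_assoc, ← hd, inv_mul_cancel_left]
      calc b = g * x * g⁻¹ := hbdef
        _ = g * (d⁻¹ * x * d) * g⁻¹ := by rw [h3]
        _ = _ := by rw [hw]; group
    apply hb
    rw [h2]
    rw [hM] at hm h1
    have h3 : m * x * m⁻¹ ∈ A := (mem_normalizer_iff.1 hm x).1 hx
    exact (mem_normalizer_iff.1 (inv_mem h1) _).1 h3
  have hmove : ∀ u ∈ CS Om (S : Subgroup G), b * u * b⁻¹ ≠ u := by
    intro u hu h1
    have h2 : u * b = b * u := by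
      conv_lhs => rw [← h1]
      group
    obtain ⟨K, hK, hKS⟩ := hu
    exact hwM (P1 u (CS_zz ⟨K, hK, hKS⟩) (CS_comm h S.isPGroup' hz ⟨K, hK, hKS⟩) w
      (hSM (hkey u (hKS (h.Ov_mem hK)) h2)))
  obtain ⟨K, hK1, hK2⟩ := exists_K h hg hbb hmove
  have hd : DataB (S : Subgroup G) (CS Om (S : Subgroup G)) K b :=
    { sq := fun u hu => h.zz_sq (CS_zz hu)
      ne := fun u hu => h.zz_ne (CS_zz hu)
      mem := fun u hu => h.Ov_mem (hK1 u hu).1
      le := fun u hu => (hK1 u hu).2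
      q8 := fun u hu => h.q8 _ (hK1 u hu).1.1
      comm := fun u hu v hv huv => (CS_cp h S.isPGroup' hu hv huv).2 _ (hK1 u hu).1 _ (hK1 v hv).1
      conjZ := fun s hs u hu => CS_conj h hu hs
      conjK := hK2 }
  refine hd.false_of (w := w) ⟨z, hz⟩ hg hbb hmove hkey ?_
  intro t ht _ ht1 u hu hcomm
  have h1 : w⁻¹ * u * w ∈ M := by
    refine P2 t ht ht1 _ ?_
    calc w⁻¹ * u * w * t = w⁻¹ * (u * (w * t * w⁻¹)) * w := by group
      _ = w⁻¹ * ((w * t * w⁻¹) * u) * w := by rw [hcomm]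
      _ = _ := by group
  have h2 := P1 u (CS_zz hu) (CS_comm h S.isPGroup' hz hu) w⁻¹ (by rwa [inv_inv])
  exact hwM (by simpa using M.inv_mem h2)

end Cfsg.Agent.Cit.Nil.RI
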