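import Cfsg.Agent.Cit.Nil.RI.TSFour
import Cfsg.Agent.Cit.Nil.RG.CZ
import Cfsg.Agent.Cit.Nil.RG.Delta

/-!
# S1309, (6b), (C3), `r = 4`, type I pairs exist, any `m`, no NIL: blocks

Every `z ∈ Z` has a type I neighbour; blocks = connected components of the type I graph.

* `stab h u` : the stabiliser of the block of `u`; `exists_rep_of_two` : a 2-subgroup of it fixes some `v` in the
  block and lies in a 2-subgroup of it together with a member over `v`;
* `norm_blk` (B1) : `z ∈ Z` normalises the block of `u`: `z` is in the block of `u` or a C-partner;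
* **`f1b`** (B2, helper449's proof) : `(u, x u x⁻¹)` is never a C-pair (`x, u ∈ Z`);
* **`two`** (B3) : elements of `Z` in a 2-group are in the same block or a C-pair;
* `YY_le` : first step of (B4).
-/

set_option autoImplicit false
set_option linter.style.haveILetI false
set_option linter.unusedSectionVars false

namespace Cfsg.Agent.Cit.Nil.RI

open Subgroup Cfsg Cfsg.Agent.Cit

open RG (WR CP Ov)

variable {G : Type*} [Group G] [Finite G] {Om : Set (Subgroup G)} {K L M N P : Subgroup G} {a c d s t u v x y z g p k : G}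

namespace FBlk

/-- a member and its conjugate by an element of a 2-group containing it: equal involutions or a C-pair -/
theorem cp_of_mem (h : WM Om) (hK : Mem Om u K) (hP : IsPGroup 2 P) (hKP : K ≤ P) (hp : p ∈ P)
    (hne : p * u * p⁻¹ ≠ u) : CP Om u (p * u * p⁻¹) := by
  have hKp : cj p K ≤ P := by
    rintro _ ⟨k, hk, rfl⟩
    exact mul_mem (mul_mem hp (hKP hk)) (inv_mem hp)
  have hK' : Mem Om (p * u * p⁻¹) (cj p K) := hK.cj h p
  have hKK : K ≠ cj p K := by
    intro h1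
    rw [← h1] at hK'
    exact hne (hK'.2.symm.trans hK.2)
  have h1 := h.wr.pg K hK.1 (cj p K) hK'.1 _ hP hKP hKp hKK
  exact h.wr.CP_of_cen (K := K) hK (fun k hk => (h1 k hk _ (hK'.zmem h)).symm) hne.symm

/-- the stabiliser of the block -/
def stab (h : WM Om) (u : G) : Subgroup G where
  carrier := {g | Blk Om u (g * u * g⁻¹)}
  mul_mem' := by
    intro g g' (h2 : Blk Om u (g * u * g⁻¹)) (h3 : Blk Om u (g' * u * g'⁻¹))
    have h4 := h3.conj h g
    have h5 : g * (g' * u * g'⁻¹) * g⁻¹ = g * g' * u * (g * g')⁻¹ := by group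
    rw [h5] at h4
    exact h2.trans h4
  one_mem' := by
    change Blk Om u (1 * u * 1⁻¹)
    rw [one_mul, inv_one, mul_one]
    exact Blk.refl u
  inv_mem' := by
    intro g (h2 : Blk Om u (g * u * g⁻¹))
    have h4 := h2.conj h g⁻¹
    have h5 : g⁻¹ * (g * u * g⁻¹) * g⁻¹⁻¹ = u := by group
    rw [h5] at h4
    exact h4.symm h

theorem mem_stab {h : WM Om} : g ∈ stab h u ↔ Blk Om u (g * u * g⁻¹) := Iff.rfl

theorem stab_of_comm {h : WM Om} (hg : g * u = u * g) : g ∈ stab h u := by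
  rw [mem_stab, hg, mul_inv_cancel_right]
  exact Blk.refl u

/-- the stabiliser of the block of `u` moves every element of the block inside the block -/
theorem stab_blk {h : WM Om} (hg : g ∈ stab h u) (hb : Blk Om u v) : Blk Om u (g * v * g⁻¹) :=
  Blk.trans hg (hb.conj h g)

theorem stab_eq (h : WM Om) (hb : Blk Om u v) : stab h u = stab h v := by
  ext g
  constructor
  · intro hg
    exact (hb.symm h).trans (stab_blk hg hb)
  · intro hg
    exact hb.trans (stab_blk hg (hb.symm h))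

/-- a 2-subgroup of the stabiliser of a block fixes some `v` in the block, together with a member -/
theorem exists_rep_of_two (h : WM Om) (hu : InZ Om u) (hP : IsPGroup 2 P) (hn : P ≤ stab h u) :
    ∃ (v : G) (L T : Subgroup G), Blk Om u v ∧ Mem Om v L ∧ IsPGroup 2 T ∧ P ≤ T ∧ L ≤ T ∧ T ≤ stab h u ∧ ∀ g ∈ T, g * v = v * g := by
  haveI : Fact (Nat.Prime 2) := ⟨Nat.prime_two⟩
  obtain ⟨K, hK⟩ := hu
  have hKH : K ≤ stab h u := fun k hk => stab_of_comm (hK.comm_z h hk)
  obtain ⟨T, hT⟩ := (hP.comap_subtype (K := stab h u)).exists_le_sylow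
  obtain ⟨m, hm⟩ := exists_le_cj T ((h.isPGroup hK.1).comap_subtype (K := stab h u))
  have hT2 : IsPGroup 2 ((T : Subgroup (stab h u)).map (stab h u).subtype) := T.isPGroup'.map _
  have hPT : P ≤ (T : Subgroup (stab h u)).map (stab h u).subtype := fun y hy =>
    ⟨⟨y, hn hy⟩, hT (mem_subgroupOf.2 hy), rfl⟩
  have hKm : cj (m : G)⁻¹ K ≤ (T : Subgroup (stab h u)).map (stab h u).subtype := by
    intro y hy
    rw [mem_cj, inv_inv] at hy
    have h2 : (⟨(m : G) * y * (m : G)⁻¹, hKH hy⟩ : stab h u) ∈ cj m (T : Subgroup (stab h u)) :=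
      hm (mem_subgroupOf.2 hy)
    rw [mem_cj] at h2
    have h3 := mem_map_of_mem (stab h u).subtype h2
    have h4 : (stab h u).subtype (m⁻¹ * (⟨(m : G) * y * (m : G)⁻¹, hKH hy⟩ : stab h u) * m) = y := by
      change (m : G)⁻¹ * ((m : G) * y * (m : G)⁻¹) * (m : G) = y
      group
    rwa [h4] at h3
  have hTs : (T : Subgroup (stab h u)).map (stab h u).subtype ≤ stab h u := map_subtype_le _
  obtain ⟨v, hv⟩ : ∃ v, v = (m : G)⁻¹ * u * (m : G)⁻¹⁻¹ := ⟨_, rfl⟩
  have hKv : Mem Om v (cj (m : G)⁻¹ K) := by rw [hv]; exact hK.cj h _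
  have hbv : Blk Om u v := by rw [hv]; exact (stab h u).inv_mem m.2
  refine ⟨v, _, _, hbv, hKv, hT2, hPT, hKm, hTs, fun g hg => ?_⟩
  by_contra hne
  have h2 : g * v * g⁻¹ ≠ v := fun h3 => hne (mul_inv_eq_iff_eq_mul.1 h3)
  have h3 := cp_of_mem h hKv hT2 hKm hg h2
  refine not_cp_blk h (hKv.inZ.conj h g) ?_ h3
  have h4 := hTs hg
  rw [stab_eq h hbv] at h4
  exact h4

variable (h : WM Om) (hT : ∀ z, InZ Om z → ∃ t, TI Om z t)

include h hT

/-- **(B1)** -/
theorem norm_blk (hz : InZ Om z) (hu : InZ Om u) (hb : Blk Om u (z * u * z⁻¹)) : Blk Om u z ∨ CP Om u z := by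
  have hz2 : IsPGroup 2 (zpowers z) := by
    refine IsPGroup.of_card (n := 1) ?_
    rw [Nat.card_zpowers, pow_one]
    exact hz.orderOf h
  have hzle : zpowers z ≤ stab h u := by
    rw [zpowers_le]
    exact hb
  obtain ⟨v, L, T, h1, h2, -, h3, -, -, h4⟩ := exists_rep_of_two h hu hz2 hzle
  have h5 := h4 z (h3 (mem_zpowers z))
  rcases cases h hT h2.inZ hz h5.symm with h6 | h6
  · exact Or.inr (cp_blk h hz h6 (h1.symm h))
  · exact Or.inl (h1.trans h6)

/-! ### (B2) -/

/-- (B2), first step: the roles of `x` and `u` are symmetric -/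
theorem cp_swap (hx : InZ Om x) (hu : InZ Om u) (hc : CP Om u (x * u * x⁻¹)) : CP Om x (u * x * u⁻¹) := by
  have hxi := hx.inv h
  have hui := hu.inv h
  have hc1 : u * (x * u * x⁻¹) = (x * u * x⁻¹) * u := cp_comm h hu (hu.conj h x) hc
  have e1 : x * (u * x * u⁻¹) = (u * x * u⁻¹) * x := by
    rw [hui]
    rw [hxi] at hc1
    calc x * (u * x * u) = (x * u * x) * u := by group
      _ = u * (x * u * x) := hc1.symm
      _ = (u * x * u) * x := by group
  rcases cases h hT hx (hx.conj h u) e1 with h1 | h1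
  · exact h1
  exfalso
  rcases norm_blk h hT hu hx h1 with h2 | h2
  · -- `u` in the block of `x`
    refine not_cp_blk h (hu.conj h x) ?_ hc
    have h3 := h2.conj h x
    rw [mul_inv_cancel_right] at h3
    exact (h2.symm h).trans h3
  · have h3 := cp_comm h hx hu h2
    rw [h3, mul_inv_cancel_right] at hc
    exact hc.1 rfl

/-- **(B2)** (F1 for blocks; proof by helper449) -/
theorem f1b (hx : InZ Om x) (hu : InZ Om u) : ¬ CP Om u (x * u * x⁻¹) := by
  intro hc
  have hxi := hx.inv h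
  have hui := hu.inv h
  have hcx := cp_swap h hT hx hu hc
  obtain ⟨x', hx'⟩ := hT x hx
  -- `x' ` in the block of `x`
  have key : ∀ y, Blk Om x y → CP Om u (y * u * y⁻¹) := by
    intro y hb
    have hy := hb.inZ hx
    have h1 : CP Om y (u * x * u⁻¹) := cp_blk h (hx.conj h u) hcx hb
    have h2 : CP Om (u * y * u⁻¹) y := cp_blk h hy h1.symm (hb.conj h u)
    have h3 := cp_swap h hT hu hy h2.symm
    exact h3
  have hx'' := hx'.mul_right h
  have k1 := hc
  have k2 := key x' hx'.blk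
  have k3 := key (x * x') hx''.blk
  have e2 : (u * x * u⁻¹) * x' = x' * (u * x * u⁻¹) :=
    (cp_comm h hx'.inT (hx.conj h u) (cp_blk h (hx.conj h u) hcx hx'.blk)).symm
  have e3 : u * (x * u * x⁻¹) = (u * x * u⁻¹) * x := by rw [hui, hxi]; group
  have e4 : x' * (u * (x * u * x⁻¹)) * x'⁻¹ = u * (x * u * x⁻¹) := by
    rw [e3]
    calc x' * (u * x * u⁻¹ * x) * x'⁻¹ = (x' * (u * x * u⁻¹)) * x * x'⁻¹ := by group
      _ = (u * x * u⁻¹) * (x' * x) * x'⁻¹ := by rw [← e2]; group
      _ = (u * x * u⁻¹) * (x * x') * x'⁻¹ := by rw [hx'.comm]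
      _ = _ := by group
  have e5 : (x' * u * x'⁻¹) * ((x * x') * u * (x * x')⁻¹) = u * (x * u * x⁻¹) := by
    rw [← e4, hx'.comm]; group
  obtain ⟨v, hv⟩ := hT u hu
  obtain ⟨L, hL⟩ := hv.inT
  refine (hv.symm h).nc hL fun l hl => ?_
  have c1 : l * (x * u * x⁻¹) = (x * u * x⁻¹) * l :=
    cp_RZ h (cp_of_ti h (hu.conj h x) k1 hv) (hL.le_RZ hl) (z_mem_RZ (hu.conj h x) h)
  have c2 : l * (x' * u * x'⁻¹) = (x' * u * x'⁻¹) * l :=
    cp_RZ h (cp_of_ti h (hu.conj h x') k2 hv) (hL.le_RZ hl) (z_mem_RZ (hu.conj h x') h)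
  have c3 : l * ((x * x') * u * (x * x')⁻¹) = ((x * x') * u * (x * x')⁻¹) * l :=
    cp_RZ h (cp_of_ti h (hu.conj h _) k3 hv) (hL.le_RZ hl) (z_mem_RZ (hu.conj h _) h)
  have c4 : l * (u * (x * u * x⁻¹)) = (u * (x * u * x⁻¹)) * l := by
    rw [← e5, ← mul_assoc, c2, mul_assoc, c3, ← mul_assoc]
  have c5 : (u * l) * (x * u * x⁻¹) = (l * u) * (x * u * x⁻¹) := by
    calc (u * l) * (x * u * x⁻¹) = u * (l * (x * u * x⁻¹)) := by group
      _ = (u * (x * u * x⁻¹)) * l := by rw [c1]; group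
      _ = l * (u * (x * u * x⁻¹)) := c4.symm
      _ = _ := by group
  exact mul_right_cancel c5

/-! ### (B3) -/

theorem rel_of_pow (n : ℕ) : ∀ z u, InZ Om z → InZ Om u → (z * u) ^ (2 ^ n) = 1 → Blk Om z u ∨ CP Om z u := by
  induction n with
  | zero =>
    intro z u hz hu h1
    rw [pow_zero, pow_one] at h1
    left
    rw [← hu.inv h, ← eq_inv_of_mul_eq_one_left h1]
    exact Blk.refl z
  | succ n ih =>
    intro z u hz hu h1
    have hui := hu.inv h
    have h2 : (z * (u * z * u⁻¹)) ^ (2 ^ n) = 1 := by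
      rw [hui]
      rw [pow_succ', pow_mul] at h1
      rw [← h1]
      congr 1
      rw [pow_two]
      group
    rcases ih z (u * z * u⁻¹) hz (hz.conj h u) h2 with h3 | h3
    · exact norm_blk h hT hu hz h3
    · exact (f1b h hT hu hz h3).elim

/-- **(B3)** -/
theorem two (hP : IsPGroup 2 P) (hx : x ∈ P) (hu : u ∈ P) (hxZ : InZ Om x) (huZ : InZ Om u) :
    Blk Om x u ∨ CP Om x u := by
  obtain ⟨n, hn⟩ := hP ⟨x * u, mul_mem hx hu⟩
  refine rel_of_pow h hT n x u hxZ huZ ?_
  have h1 := congrArg (Subgroup.subtype P) hn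
  simpa using h1

/-- literally the field `f1` of `CompFour.TB` -/
theorem f1b' : ∀ x u, InZ Om x → InZ Om u → ¬ CP Om u (x * u * x⁻¹) := fun _ _ hx hu => f1b h hT hx hu

/-- literally the field `two` of `CompFour.TB` -/
theorem two' : ∀ P : Subgroup G, IsPGroup 2 P → ∀ x ∈ P, ∀ u ∈ P, InZ Om x → InZ Om u → Blk Om x u ∨ CP Om x u :=
  fun _ hP _ hx _ hu hxZ huZ => two h hT hP hx hu hxZ huZ

/-! ### (B4) -/

/-- the group generated by the members over the blocks meeting `P` -/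
def YY (Om : Set (Subgroup G)) (P : Subgroup G) : Subgroup G :=
  closure {k | ∃ z v K, z ∈ P ∧ InZ Om z ∧ Blk Om z v ∧ Mem Om v K ∧ k ∈ K}

omit h hT in
theorem YY_conj (h : WM Om) (hg : g ∈ P) (hk : k ∈ YY Om P) : g * k * g⁻¹ ∈ YY Om P := by
  induction hk using closure_induction with
  | mem k hk =>
    obtain ⟨z, v, K, h1, h2, h3, h4, h5⟩ := hk
    exact subset_closure ⟨g * z * g⁻¹, g * v * g⁻¹, _, mul_mem (mul_mem hg h1) (inv_mem hg), h2.conj h g,
      h3.conj h g, h4.cj h g, ⟨k, h5, rfl⟩⟩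
  | one => rw [mul_one, mul_inv_cancel]; exact one_mem _
  | mul a b _ _ ha hb =>
    have h1 : g * (a * b) * g⁻¹ = (g * a * g⁻¹) * (g * b * g⁻¹) := by group
    rw [h1]
    exact mul_mem ha hb
  | inv a _ ha =>
    have h1 : g * a⁻¹ * g⁻¹ = (g * a * g⁻¹)⁻¹ := by group
    rw [h1]
    exact inv_mem ha

/-- `YY Om P` stabilises the blocks meeting the 2-group `P` -/
theorem YY_le (hP : IsPGroup 2 P) (hz : InZ Om z) (hzP : z ∈ P) : YY Om P ≤ stab h z := by
  rw [YY, closure_le]
  rintro k ⟨w, v, K, h1, h2, h3, h4, h5⟩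
  rcases two h hT hP hzP h1 hz h2 with h6 | h6
  · have h7 := h6.trans h3
    change k ∈ stab h z
    rw [stab_eq h h7]
    exact stab_of_comm (h4.comm_z h h5)
  · refine stab_of_comm ?_
    have h7 : CP Om v z := cp_blk h hz h6.symm h3
    exact cp_RZ h h7 (h4.le_RZ h5) (z_mem_RZ hz h)

end FBlk

end Cfsg.Agent.Cit.Nil.RI
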