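import Cfsg.Agent.Cit.Nil.RI.TSFour

/-!
# S1309, (6b), (C3), `r = 4`, any `m`, type I: TSB (helper488; (1.4) of `blueprints/R18-6b-n5-helper449.md`)

Two commuting elements `x ≠ s` of one block: there is `c` in the block with `x s ∈ R_c`, and a member over `c` which
`x s` centralises.
-/

set_option autoImplicit false
set_option linter.style.haveILetI false
set_option linter.unusedSectionVars false

namespace Cfsg.Agent.Cit.Nil.RI

open Subgroup Cfsg Cfsg.Agent.Cit

open RG (WR CP Ov)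

variable {G : Type*} [Group G] [Finite G] {Om : Set (Subgroup G)} {K L M : Subgroup G} {a c d s t u v x y z g : G}

/-- `x` fixes the member `K` over `s`, not inner on it: `x` is conjugate to `x s` under `K` -/
theorem exists_conj_mul (h : WM Om) (hx : InZ Om x) (hxs : x * s = s * x) (hK : Mem Om s K)
    (hf : cj x K = K) (hni : ¬ RG.Inn x K) : ∃ y, y * x * y⁻¹ = x * s ∧ y * s * y⁻¹ = s := by
  obtain ⟨y, hy⟩ := (h.wr.inn_or_tr hK.1 hf (hx.z2 h)).resolve_left hni
  have hyy : y * y = s := by rw [hy.sq, hK.2]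
  have hys : y * s = s * y := hK.comm_z h hy.mem
  have hss := hK.inZ.z2 h
  have h1 : x * y * x⁻¹ = s * y := by rw [hy.inv, hK.inv_eq h hy.mem hyy]
  have h2 : x * y = s * y * x := by rwa [mul_inv_eq_iff_eq_mul] at h1
  refine ⟨y, ?_, by rw [hys, mul_inv_cancel_right]⟩
  rw [mul_inv_eq_iff_eq_mul]
  calc y * x = (s * s) * (y * x) := by rw [hss, one_mul]
    _ = s * (s * y * x) := by group
    _ = s * (x * y) := by rw [h2]
    _ = (s * x) * y := by group
    _ = x * s * y := by rw [hxs]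

/-- the conclusion of TSB, for the pair `(x, s)` -/
def TSBc (Om : Set (Subgroup G)) (x s : G) : Prop :=
  ∃ c, InZ Om c ∧ Blk Om c s ∧ x * s ∈ RZ Om c ∧ ∃ K, Mem Om c K ∧ ∀ k ∈ K, (x * s) * k = k * (x * s)

theorem TSBc.of_inZ (h : WM Om) (hc : InZ Om (x * s)) (hb : Blk Om (x * s) s) : TSBc Om x s := by
  obtain ⟨K, hK⟩ := id hc
  exact ⟨x * s, hc, hb, z_mem_RZ hc h, K, hK, fun k hk => (hK.comm_z h hk).symm⟩

/-- the action of `x = x₀ x₁ x₂ x₃` (`x_i` not commuting with `s_i`) on `y` -/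
theorem TI.conj_four {F : Fin 4 → Subgroup G} {k l : Fin 4 → G} (hti : TI Om s c) (h : WM Om) (f : Fr Om c F)
    (hL : Mem Om s L) (hy : As L c y) (hl : ∀ i, l i ∈ F i) (hll : ∀ i, l i * l i = c)
    (hk : ∀ i, As (F i) s (k i)) (hnc : ∀ i, k i * l i ≠ l i * k i) :
    (l 0 * l 1 * l 2 * l 3) * y * (l 0 * l 1 * l 2 * l 3)⁻¹ = k 0 * k 1 * k 2 * k 3 * y ∨
    (l 0 * l 1 * l 2 * l 3) * y * (l 0 * l 1 * l 2 * l 3)⁻¹ = c * (k 0 * k 1 * k 2 * k 3 * y) := by
  have hcc := f.inZ.z2 h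
  have hcl : ∀ i, l i * c = c * l i := fun i => (f.mem i).comm_z h (hl i)
  have hck : ∀ i, k i * c = c * k i := fun i => (f.mem i).comm_z h (hk i).1
  have hlk : ∀ i j, i ≠ j → l i * k j = k j * l i := fun i j hij =>
    (f.mem i).comm (f.mem j) h (f.ne hij) (hl i) (hk j).1
  have hkk : ∀ i j, i ≠ j → k i * k j = k j * k i := fun i j hij =>
    (f.mem i).comm (f.mem j) h (f.ne hij) (hk i).1 (hk j).1
  have step : ∀ j (w v : G), l j * w = w * l j → w * c = c * w → (v = w * y ∨ v = c * (w * y)) →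
      (l j * v * (l j)⁻¹ = w * k j * y ∨ l j * v * (l j)⁻¹ = c * (w * k j * y)) := by
    intro j w v h1 h2 h3
    have h4 := hti.conj_y h hL (f.mem j) hy (hk j) (hl j) (hll j) (hnc j)
    have h5 : l j * (w * y) * (l j)⁻¹ = w * (l j * y * (l j)⁻¹) := by
      calc l j * (w * y) * (l j)⁻¹ = (l j * w) * y * (l j)⁻¹ := by group
        _ = (w * l j) * y * (l j)⁻¹ := by rw [h1]
        _ = _ := by group
    have h6 : l j * (w * y) * (l j)⁻¹ = w * k j * y ∨ l j * (w * y) * (l j)⁻¹ = c * (w * k j * y) := by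
      rw [h5]
      rcases h4 with h4 | h4 <;> rw [h4]
      · left; group
      · right
        calc w * (c * (k j * y)) = (w * c) * (k j * y) := by group
          _ = (c * w) * (k j * y) := by rw [h2]
          _ = _ := by group
    rcases h3 with h3 | h3
    · rw [h3]; exact h6
    · have h7 : l j * v * (l j)⁻¹ = c * (l j * (w * y) * (l j)⁻¹) := by
        rw [h3]
        calc l j * (c * (w * y)) * (l j)⁻¹ = (l j * c) * (w * y) * (l j)⁻¹ := by group
          _ = (c * l j) * (w * y) * (l j)⁻¹ := by rw [hcl]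
          _ = _ := by group
      rw [h7]
      rcases h6 with h6 | h6 <;> rw [h6]
      · right; rfl
      · left; rw [← mul_assoc, hcc, one_mul]
  have s3 := step 3 1 y (by rw [one_mul, mul_one]) (by rw [one_mul, mul_one]) (Or.inl (by rw [one_mul]))
  rw [one_mul] at s3
  have s2 := step 2 (k 3) _ (hlk 2 3 (by decide)) (hck 3) s3
  have e1 : l 1 * (k 3 * k 2) = k 3 * k 2 * l 1 := by
    rw [← mul_assoc, hlk 1 3 (by decide), mul_assoc, hlk 1 2 (by decide), ← mul_assoc]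
  have e1' : k 3 * k 2 * c = c * (k 3 * k 2) := by rw [mul_assoc, hck, ← mul_assoc, hck, mul_assoc]
  have s1 := step 1 (k 3 * k 2) _ e1 e1' s2
  have e0 : l 0 * (k 3 * k 2 * k 1) = k 3 * k 2 * k 1 * l 0 := by
    rw [← mul_assoc, ← mul_assoc, hlk 0 3 (by decide), mul_assoc (k 3), hlk 0 2 (by decide), ← mul_assoc, mul_assoc _ (l 0),
      hlk 0 1 (by decide), ← mul_assoc]
  have e0' : k 3 * k 2 * k 1 * c = c * (k 3 * k 2 * k 1) := by
    rw [mul_assoc, hck, ← mul_assoc, e1', mul_assoc]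
  have s0 := step 0 (k 3 * k 2 * k 1) _ e0 e0' s1
  have e2 : k 3 * k 2 * k 1 * k 0 = k 0 * k 1 * k 2 * k 3 := by
    calc k 3 * k 2 * k 1 * k 0 = (k 3 * k 2) * (k 1 * k 0) := by group
      _ = (k 2 * k 3) * (k 0 * k 1) := by rw [hkk 3 2 (by decide), hkk 1 0 (by decide)]
      _ = k 2 * (k 3 * k 0) * k 1 := by group
      _ = k 2 * (k 0 * k 3) * k 1 := by rw [hkk 3 0 (by decide)]
      _ = (k 2 * k 0) * (k 3 * k 1) := by group
      _ = (k 0 * k 2) * (k 1 * k 3) := by rw [hkk 2 0 (by decide), hkk 3 1 (by decide)]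
      _ = k 0 * (k 2 * k 1) * k 3 := by group
      _ = k 0 * (k 1 * k 2) * k 3 := by rw [hkk 2 1 (by decide)]
      _ = _ := by group
  rw [e2] at s0
  have e3 : l 0 * (l 1 * (l 2 * (l 3 * y * (l 3)⁻¹) * (l 2)⁻¹) * (l 1)⁻¹) * (l 0)⁻¹ =
      (l 0 * l 1 * l 2 * l 3) * y * (l 0 * l 1 * l 2 * l 3)⁻¹ := by group
  rwa [e3] at s0

/-- `c` of type I with `x` and with `s`, the actions of `x` and `s` on the members over `c` never commute: `x` fixes
the members over `s` -/
theorem cj_eq_of_ti (h : WM Om) (hsc : TI Om s c) (hxc : TI Om x c) (hxs : x * s = s * x)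
    (hno : ∀ K, Mem Om c K → ¬ As K (x * s) 1) (hL : Mem Om s L) : cj x L = L := by
  obtain ⟨F, f⟩ := hsc.inT.exists_fr h
  obtain ⟨k, hk, hsk⟩ := (mem_RZ f h).1 ((hsc.symm h).mem_RZ h)
  obtain ⟨l, hl, hxl⟩ := (mem_RZ f h).1 ((hxc.symm h).mem_RZ h)
  have ak : ∀ i, As (F i) s (k i) := fun i => by rw [hsk]; exact f.as_prod h hk i
  have al : ∀ i, As (F i) x (l i) := fun i => by rw [hxl]; exact f.as_prod h hl i
  have hkk : ∀ i, k i * k i = c := fun i => (hsc.symm h).sq_of_as h (f.mem i) (ak i)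
  have hll : ∀ i, l i * l i = c := fun i => (hxc.symm h).sq_of_as h (f.mem i) (al i)
  have hcc := f.inZ.z2 h
  have hc1 := f.inZ.z1 h
  have hnc : ∀ i, k i * l i ≠ l i * k i := by
    intro i hc
    apply hno _ (f.mem i)
    have h1 := (al i).mul (ak i)
    have h2 : l i * k i = 1 ∨ l i * k i = c := by
      rcases (f.mem i).of_comm h (ak i).1 (hkk i) (hl i) hc with h3 | h3 | h3 | h3
      · have := hll i
        rw [h3, one_mul] at this
        exact absurd this.symm hc1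
      · have := hll i
        rw [h3, hcc] at this
        exact absurd this.symm hc1
      · right; rw [h3, hkk]
      · left; rw [h3, mul_assoc, hkk, hcc]
    rcases h2 with h2 | h2
    · rwa [h2] at h1
    · rw [h2] at h1
      have h3 := h1.mul (As.one_iff.2 fun k' hk' => by
        rw [inv_eq_of_mul_eq_one_right hcc]; exact ((f.mem i).comm_z h hk').symm : As (F i) c⁻¹ 1)
      refine As.one_iff.2 fun k' hk' => ?_
      have h4 := h1.2 k' hk'
      have h5 := (f.mem i).comm_z h hk'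
      have h6 : c * k' * c⁻¹ = k' := by rw [← h5, mul_inv_cancel_right]
      rw [h6, mul_inv_eq_iff_eq_mul] at h4
      exact h4
  obtain ⟨y, hy, hyy⟩ := hsc.exists_as h hL
  have h1 := hsc.conj_four h f hL hy hl hll ak hnc
  rw [← hxl, ← hsk] at h1
  by_contra hne
  have hL' : Mem Om s (cj x L) := hL.cj_comm h hxs
  have hy' : As (cj x L) c (x * y * x⁻¹) := hy.conj_comm hxc.comm
  obtain ⟨M, hM, hML, hML'⟩ := hL.third hL' h
  obtain ⟨m, hm, hmm⟩ := hsc.exists_as h hM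
  -- trivial actions
  have a1 : As L (x * y * x⁻¹) 1 := hL.as_one hL' h (fun h2 => hne h2.symm) hy'.1
  have a2 : As M (x * y * x⁻¹) 1 := hM.as_one hL' h hML' hy'.1
  have a3 : As M y 1 := hM.as_one hL h hML hy.1
  rcases h1 with h1 | h1
  · rw [h1] at a1
    have a4 := (hL.as_z h).mul (As.self hy.1)
    rw [one_mul] at a4
    exact hL.not_as_one h a4 hyy a1
  · rw [h1] at a2
    have a4 := hm.mul ((hM.as_z h).mul a3)
    rw [one_mul, mul_one] at a4
    exact hM.not_as_one h a4 hmm a2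

/-- **TSB** -/
theorem tsb (h : WM Om) (hT : ∀ z, InZ Om z → ∃ t, TI Om z t) (hx : InZ Om x) (hs : InZ Om s) (hne : x ≠ s)
    (hxs : x * s = s * x) (hb : Blk Om x s) : TSBc Om x s := by
  rcases tri h hx hs hne with h1 | h1 | ⟨h1, h2⟩
  · exact absurd h1 (not_cp_blk h hs hb)
  · exact TSBc.of_inZ h (h1.inZ_mul h) ((h1.mul_left h).symm h).blk
  -- free both ways
  by_cases hfix : ∃ K, Mem Om s K ∧ cj x K = K
  · obtain ⟨K, hK, hf⟩ := hfix
    obtain ⟨y, hy1, hy2⟩ := exists_conj_mul h hx hxs hK hf (h1 K hK hf)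
    have h3 := hx.conj h y
    have h4 := hb.conj h y
    rw [hy1] at h3 h4
    rw [hy2] at h4
    exact TSBc.of_inZ h h3 h4
  by_cases hfix' : ∃ K, Mem Om x K ∧ cj s K = K
  · obtain ⟨K, hK, hf⟩ := hfix'
    obtain ⟨y, hy1, hy2⟩ := exists_conj_mul h hs hxs.symm hK hf (h2 K hK hf)
    have h3 := hs.conj h y
    have h4 := hb.conj h y
    rw [hy1, ← hxs] at h3
    rw [hy1, hy2, ← hxs] at h4
    exact TSBc.of_inZ h h3 ((h4.symm h).trans hb)
  push Not at hfix
  have hxx := hx.z2 h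
  obtain ⟨t0, ht0⟩ := hT s hs
  obtain ⟨t, ht, hm⟩ := exists_fixed h ht0 hxx hxs
  have h3 := key h hs hxx hxs h1 (ht.mem_RZ h) (ht.inT.z2 h) hm
  have hxt : x * t = t * x := by rwa [mul_inv_eq_iff_eq_mul] at h3
  obtain ⟨c, hc, hxc, hnf⟩ : ∃ c, TI Om s c ∧ x * c = c * x ∧ ¬ RG.Fr Om x c := by
    by_contra hcon
    push Not at hcon
    obtain ⟨K, hK, hf⟩ := not_all_moved h ht hxx hxs hxt hcon
    exact hfix K hK hf
  have hxne : x ≠ c := by
    rintro rfl
    obtain ⟨K, hK⟩ := hs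
    exact hfix K hK (by
      obtain ⟨y, hy, -⟩ := hc.exists_as h hK
      exact hy.cj_eq)
  have hti : TI Om x c := by
    rcases tri h hx hc.inT hxne with h4 | h4 | h4
    · exact absurd h4 (not_cp_blk h hc.inT (hb.trans hc.blk))
    · exact h4
    · exact absurd h4.1 hnf
  have hR : x * s ∈ RZ Om c := mul_mem ((hti.symm h).mem_RZ h) ((hc.symm h).mem_RZ h)
  by_contra hno
  obtain ⟨K, hK⟩ := hs
  refine hfix K hK (cj_eq_of_ti h hc hti hxs (fun M hM hM1 => hno ?_) hK)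
  exact ⟨c, hc.inT, (hc.symm h).blk, hR, M, hM, As.one_iff.1 hM1⟩

/-- **TSB**, as the field `CompFour.TB.tsb` -/
theorem tsb' (h : WM Om) (hT : ∀ z, InZ Om z → ∃ t, TI Om z t) :
    ∀ s x, InZ Om s → InZ Om x → s * x = x * s → s ≠ x → Blk Om s x →
      ∃ c, Blk Om s c ∧ s * x ∈ RZ Om c ∧ ∃ K, Mem Om c K ∧ ∀ k ∈ K, s * x * k = k * (s * x) := by
  intro s x hs hx hsx hne hb
  obtain ⟨c, -, h1, h2, h3⟩ := tsb h hT hs hx hne hsx hb
  exact ⟨c, hb.trans (h1.symm h), h2, h3⟩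

end Cfsg.Agent.Cit.Nil.RI
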