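import Cfsg.Agent.Cit.Nil.RI.Closed
import Cfsg.Agent.Cit.Nil.RG.Closed

/-!
# (6b), any `r`: strong closure from `CZ (ZZ Om)` alone (after helper488's `RG/Closed.lean`)

* `closed_cz` : `WR Om`, `CZ (ZZ Om)` (commuting is transitive on `Z`, (F1)), a member over `z` lies in `S`:
  `AZ (ZZ Om) z` is strongly closed in `S`.

The points are `CS Om S`, the involutions of the members in `S`.
-/

set_option autoImplicit false
set_option linter.style.haveILetI false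
set_option linter.unusedSectionVars false

namespace Cfsg.Agent.Cit.Nil.RI

open Subgroup Cfsg Cfsg.Agent.Cit
open RG (WR Ov CP CZ RR)
open RFour (ComZ AZ)

variable {G : Type*} [Group G] {Om : Set (Subgroup G)} {K L M : Subgroup G} {z x y g g' u v w a b k l r s t : G}

theorem CS_cj (h : WR Om) (S : Subgroup G) (g : G) (hz : z ∈ CS Om S) : g * z * g⁻¹ ∈ CS Om (cj g S) := by
  obtain ⟨K, hK, hKS⟩ := hz
  exact ⟨cj g K, h.Ov_cj hK g, cj_mono g hKS⟩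

theorem CS_cj_iff (h : WR Om) (S : Subgroup G) (g : G) : g * z * g⁻¹ ∈ CS Om (cj g S) ↔ z ∈ CS Om S := by
  refine ⟨fun h1 => ?_, CS_cj h S g⟩
  have h2 := CS_cj h _ g⁻¹ h1
  have e1 : g⁻¹ * (g * z * g⁻¹) * g⁻¹⁻¹ = z := by group
  rwa [e1, cj_inv_cj] at h2

theorem CS_mem (h : WR Om) {S : Subgroup G} (hz : z ∈ CS Om S) : z ∈ S := by
  obtain ⟨K, hK, hKS⟩ := hz
  exact hKS (h.Ov_mem hK)

/-- diagonal elements commute -/
theorem diag_comm (h : WR Om)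
    (huv : ∀ p ∈ ({u, b * u * b⁻¹} : Set G), ∀ q ∈ ({v, b * v * b⁻¹} : Set G), CP Om p q)
    (hk : k ∈ RR Om u) (hl : l ∈ RR Om v) :
    (k * (b * k * b⁻¹)) * (l * (b * l * b⁻¹)) = (l * (b * l * b⁻¹)) * (k * (b * k * b⁻¹)) := by
  have hbk := h.RR_cj hk b
  have hbl := h.RR_cj hl b
  have d1 : Commute k l := h.CP_RR (huv u (Or.inl rfl) v (Or.inl rfl)) hk hl
  have d2 : Commute k (b * l * b⁻¹) := h.CP_RR (huv u (Or.inl rfl) _ (Or.inr rfl)) hk hbl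
  have d3 : Commute (b * k * b⁻¹) l := h.CP_RR (huv _ (Or.inr rfl) v (Or.inl rfl)) hbk hl
  have d4 : Commute (b * k * b⁻¹) (b * l * b⁻¹) := h.CP_RR (huv _ (Or.inr rfl) _ (Or.inr rfl)) hbk hbl
  exact ((d1.mul_right d2).mul_left (d3.mul_right d4)).eq

/-- **strong closure** -/
theorem closed_cz [Finite G] (h : WR Om) (c : CZ (RG.ZZ Om)) (S : Sylow 2 G) (hz : z ∈ CS Om (S : Subgroup G)) :
    IsStronglyClosed (AZ (RG.ZZ Om) z) (S : Subgroup G) := by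
  classical
  haveI : Fact (Nat.Prime 2) := ⟨Nat.prime_two⟩
  have hzZ := CS_zz hz
  have hzS := CS_mem h hz
  refine c.closed_of S hzZ hzS fun b hb hbb k _ hcent hmv => ?_
  by_contra hcon
  push Not at hcon
  obtain ⟨z', hz'⟩ : ∃ z', z' = k * z * k⁻¹ := ⟨_, rfl⟩
  rw [← hz'] at hcent hcon
  have hz'Z : z' ∈ RG.ZZ Om := by rw [hz']; exact h.zz_cj hzZ k
  have hbi : b⁻¹ = b := inv_eq_of_mul_eq_one_right hbb
  -- the points
  let Δ : Set G := CS Om (S : Subgroup G)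
  have hΔ : ∀ u ∈ Δ, b * u * b⁻¹ ∈ Δ := fun u hu => CS_conj h hu hb
  have hΔcp : ∀ u ∈ Δ, ∀ v ∈ Δ, u ≠ v → CP Om u v := fun u hu v hv huv => CS_cp h S.isPGroup' hu hv huv
  have hΔb : ∀ u ∈ Δ, u ≠ b * u * b⁻¹ := by
    intro u hu h6
    refine hmv u (CS_zz hu) (CS_comm h S.isPGroup' hz hu) ?_
    calc u * b = (b * u * b⁻¹) * b := by rw [← h6]
      _ = b * u := by group
  obtain ⟨T, hT1, hT2, hT3⟩ := RG.exists_transversal (Set.toFinite Δ).toFinset (fun u => b * u * b⁻¹)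
    (by
      intro u _
      change b * (b * u * b⁻¹) * b⁻¹ = u
      calc b * (b * u * b⁻¹) * b⁻¹ = (b * b) * u * (b * b)⁻¹ := by group
        _ = u := by rw [hbb]; group)
    (by
      intro u hu
      rw [Set.Finite.mem_toFinset] at hu
      exact (hΔb u hu).symm)
  have hTΔ : ∀ u ∈ T, u ∈ Δ := fun u hu => (Set.Finite.mem_toFinset _).1 (hT1 hu)
  -- the group `Γ` and the Sylow subgroup `S' ≥ Γ`, `S' ≤ M'`
  obtain ⟨M', hM'⟩ : ∃ M', M' = normalizer (AZ (RG.ZZ Om) z' : Set G) := ⟨_, rfl⟩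
  rw [← hM'] at hcent
  let Γ : Subgroup G := (S : Subgroup G) ⊓ centralizer {b}
  have hΓ : IsPGroup 2 Γ := S.isPGroup'.to_le inf_le_left
  have hΓM : Γ ≤ M' := fun g hg => hcent g hg.1 (mem_centralizer_singleton_iff.1 hg.2)
  obtain ⟨S1, hS1⟩ : ∃ S1 : Sylow 2 G, (S1 : Subgroup G) = cj k (S : Subgroup G) := ⟨k • S, rfl⟩
  have hz'S1 : z' ∈ (S1 : Subgroup G) := by rw [hS1, hz']; exact conj_mem_cj hzS
  have hS1M : (S1 : Subgroup G) ≤ M' := by rw [hM']; exact c.pg_le hz'Z S1.isPGroup' hz'S1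
  obtain ⟨m, hm, hmS⟩ := ROne.Strong.exists_cj_le S1 hS1M hΓ hΓM
  obtain ⟨S', hS'⟩ : ∃ S' : Subgroup G, S' = cj (m⁻¹ * k) (S : Subgroup G) := ⟨_, rfl⟩
  have hΓS' : Γ ≤ S' := by
    intro g hg
    have h1 := hmS (conj_mem_cj (g := m) hg)
    rw [hS1] at h1
    rw [hS', cj_mul, mem_cj, inv_inv]
    exact h1
  have hS'M : S' ≤ M' := by
    intro g hg
    rw [hS', cj_mul, ← hS1, mem_cj, inv_inv] at hg
    have h1 := mul_mem (mul_mem (inv_mem hm) (hS1M hg)) hm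
    have e1 : m⁻¹ * (m * g * m⁻¹) * m = g := by group
    rwa [e1] at h1
  let X : Set G := CS Om S'
  have hXX : ∀ x ∈ X, x ∈ RG.ZZ Om ∧ x * z' = z' * x := by
    intro x hx
    have h1 := hS'M (CS_mem h hx)
    rw [hM'] at h1
    exact ⟨CS_zz hx, c.comm_of_norm hz'Z (CS_zz hx) h1⟩
  -- `|X| = |Δ|`
  have hcard : Nat.card X = (Set.toFinite Δ).toFinset.card := by
    have h6 : X = (fun u => (m⁻¹ * k) * u * (m⁻¹ * k)⁻¹) '' Δ := by
      ext x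
      constructor
      · intro hx
        refine ⟨(m⁻¹ * k)⁻¹ * x * (m⁻¹ * k), ?_, by
          change (m⁻¹ * k) * ((m⁻¹ * k)⁻¹ * x * (m⁻¹ * k)) * (m⁻¹ * k)⁻¹ = x
          group⟩
        have e1 : (m⁻¹ * k) * ((m⁻¹ * k)⁻¹ * x * (m⁻¹ * k)) * (m⁻¹ * k)⁻¹ = x := by group
        have h1 : (m⁻¹ * k) * ((m⁻¹ * k)⁻¹ * x * (m⁻¹ * k)) * (m⁻¹ * k)⁻¹ ∈ CS Om (cj (m⁻¹ * k) (S : Subgroup G)) := by
          rw [e1, ← hS']; exact hx
        exact (CS_cj_iff h _ _).1 h1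
      · rintro ⟨u, hu, rfl⟩
        change (m⁻¹ * k) * u * (m⁻¹ * k)⁻¹ ∈ CS Om S'
        rw [hS']
        exact CS_cj h _ _ hu
    rw [← Set.ncard_eq_toFinset_card Δ (Set.toFinite Δ)]
    change X.ncard = _
    rw [h6]
    exact Set.ncard_image_of_injective _ fun u v huv => mul_left_cancel (mul_right_cancel huv)
  -- the action
  have hX : ∀ g ∈ S', ∀ x ∈ X, g * x * g⁻¹ ∈ X := fun g hg x hx => CS_conj h hx hg
  let φ := RG.actX S' X hX
  obtain ⟨x0, hx0⟩ : ∃ x0, x0 ∈ X := by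
    refine ⟨(m⁻¹ * k) * z * (m⁻¹ * k)⁻¹, ?_⟩
    change _ ∈ CS Om S'
    rw [hS']
    exact CS_cj h _ _ hz
  haveI : Nonempty X := ⟨⟨x0, hx0⟩⟩
  let H : Subgroup (Equiv.Perm X) := (Γ.subgroupOf S').map φ
  have hH : IsPGroup 2 H := (hΓ.comap_subtype).map φ
  -- the elements
  have hex : ∀ u : G, ∃ k k' : G, u ∈ Δ → (k ∈ RR Om u ∧ k' ∈ RR Om u ∧ k ∈ (S : Subgroup G) ∧
      k' ∈ (S : Subgroup G) ∧ k * k' = u * (k' * k)) := by
    intro u
    by_cases hu : u ∈ Δ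
    · obtain ⟨K, hK, hKS⟩ := id hu
      obtain ⟨k, hk, hkk⟩ := h.exists_four hK.1
      obtain ⟨k', hk', hkk', hk1, hk2⟩ := h.exists_anti hK.1 hk hkk
      obtain ⟨h6, -⟩ := h.anti hK.1 hk hk' hkk hkk' hk1 hk2
      refine ⟨k, k', fun _ => ⟨WR.le_RR hK hk, WR.le_RR hK hk', hKS hk, hKS hk', ?_⟩⟩
      rw [h6, hK.2, ← mul_assoc, h.zz_sq (CS_zz hu), one_mul]
    · exact ⟨1, 1, fun h6 => absurd h6 hu⟩
  choose κ κ' hκ using hex
  let P : G → G := fun u => κ u * (b * κ u * b⁻¹)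
  let Q : G → G := fun u => κ' u * (b * κ' u * b⁻¹)
  -- they lie in `Γ`
  have hmem : ∀ u ∈ Δ, ∀ a ∈ RR Om u, a ∈ (S : Subgroup G) → a * (b * a * b⁻¹) ∈ Γ := by
    intro u hu a ha h6
    refine Subgroup.mem_inf.2 ⟨mul_mem h6 (mul_mem (mul_mem hb h6) (inv_mem hb)), ?_⟩
    rw [mem_centralizer_singleton_iff]
    have h7 := h.CP_RR (hΔcp u hu _ (hΔ u hu) (hΔb u hu)) ha (h.RR_cj ha b)
    calc a * (b * a * b⁻¹) * b = (b * a * b⁻¹) * a * b := by rw [h7]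
      _ = b * (a * (b⁻¹ * a * b)) := by group
      _ = b * (a * (b * a * b⁻¹)) := by rw [hbi]
  have hPΓ : ∀ u ∈ T, P u ∈ Γ := fun u hu => hmem u (hTΔ u hu) _ (hκ u (hTΔ u hu)).1 (hκ u (hTΔ u hu)).2.2.1
  have hQΓ : ∀ u ∈ T, Q u ∈ Γ := fun u hu => hmem u (hTΔ u hu) _ (hκ u (hTΔ u hu)).2.1 (hκ u (hTΔ u hu)).2.2.2.1
  let ψ : G → Equiv.Perm X := fun g => if hg : g ∈ S' then φ ⟨g, hg⟩ else 1
  have hψ : ∀ g (hg : g ∈ S'), ψ g = φ ⟨g, hg⟩ := fun g hg => dif_pos hg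
  have hψm : ∀ g g', g ∈ S' → g' ∈ S' → g * g' = g' * g → ψ g * ψ g' = ψ g' * ψ g := by
    intro g g' hg hg' hgg
    rw [hψ g hg, hψ g' hg', ← map_mul, ← map_mul]
    exact congrArg φ (Subtype.ext hgg)
  have hψH : ∀ g ∈ Γ, ψ g ∈ H := fun g hg => by
    rw [hψ g (hΓS' hg)]
    exact ⟨⟨g, hΓS' hg⟩, mem_subgroupOf.2 hg, rfl⟩
  have key := RG.count H hH (fun u => ψ (P u)) (fun u => ψ (Q u)) T (fun u hu => hψH _ (hPΓ u hu))
    (fun u hu => hψH _ (hQΓ u hu)) ?_ ?_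
  · rw [hcard] at key
    omega
  · intro u hu v hv huv
    have hu' := hTΔ u hu
    have hv' := hTΔ v hv
    have h6 : ∀ p ∈ ({u, b * u * b⁻¹} : Set G), ∀ q ∈ ({v, b * v * b⁻¹} : Set G), CP Om p q := by
      rintro p (rfl | rfl) q (rfl | rfl)
      · exact hΔcp _ hu' _ hv' huv
      · exact hΔcp _ hu' _ (hΔ v hv') fun h7 => hT2 v hv (by change b * v * b⁻¹ ∈ T; rw [← h7]; exact hu)
      · exact hΔcp _ (hΔ u hu') _ hv' fun h7 => hT2 u hu (by change b * u * b⁻¹ ∈ T; rw [h7]; exact hv)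
      · exact hΔcp _ (hΔ u hu') _ (hΔ v hv') fun h7 => huv (mul_left_cancel (mul_right_cancel h7))
    have hPu := hΓS' (hPΓ u hu)
    have hQu := hΓS' (hQΓ u hu)
    have hPv := hΓS' (hPΓ v hv)
    have hQv := hΓS' (hQΓ v hv)
    have k1 := (hκ u hu').1
    have k2 := (hκ u hu').2.1
    have k3 := (hκ v hv').1
    have k4 := (hκ v hv').2.1
    exact ⟨hψm _ _ hPu hPv (diag_comm h h6 k1 k3), hψm _ _ hPu hQv (diag_comm h h6 k1 k4),
      hψm _ _ hQu hPv (diag_comm h h6 k2 k3), hψm _ _ hQu hQv (diag_comm h h6 k2 k4)⟩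
  · intro u hu heq
    have hu' := hTΔ u hu
    have hPu := hΓS' (hPΓ u hu)
    have hQu := hΓS' (hQΓ u hu)
    obtain ⟨k1, k2, -, -, k3⟩ := hκ u hu'
    have hbu := hΔ u hu'
    have c1 := hΔcp u hu' _ hbu (hΔb u hu')
    -- `P Q = e Q P`
    obtain ⟨e, he⟩ : ∃ e, e = u * (b * u * b⁻¹) := ⟨_, rfl⟩
    have h6 : P u * Q u = e * (Q u * P u) := by
      change κ u * (b * κ u * b⁻¹) * (κ' u * (b * κ' u * b⁻¹)) = e * (κ' u * (b * κ' u * b⁻¹) * (κ u * (b * κ u * b⁻¹)))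
      obtain ⟨α, hα⟩ : ∃ α, α = κ u := ⟨_, rfl⟩
      obtain ⟨β, hβ⟩ : ∃ β, β = κ' u := ⟨_, rfl⟩
      rw [← hα, ← hβ] at k3
      rw [← hα] at k1
      rw [← hβ] at k2
      rw [← hα, ← hβ]
      have m1 : (b * α * b⁻¹) * β = β * (b * α * b⁻¹) := (h.CP_RR c1 k2 (h.RR_cj k1 b)).symm
      have m2 : (b * β * b⁻¹) * α = α * (b * β * b⁻¹) := (h.CP_RR c1 k1 (h.RR_cj k2 b)).symm
      have m3 : (b * u * b⁻¹) * (β * α) = (β * α) * (b * u * b⁻¹) :=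
        (h.CP_RR c1 (mul_mem k2 k1) (h.RR_mem (CS_zz hbu))).symm
      have m4 : (b * α * b⁻¹) * (b * β * b⁻¹) = (b * u * b⁻¹) * ((b * β * b⁻¹) * (b * α * b⁻¹)) := by
        calc (b * α * b⁻¹) * (b * β * b⁻¹) = b * (α * β) * b⁻¹ := by group
          _ = b * (u * (β * α)) * b⁻¹ := by rw [k3]
          _ = _ := by group
      calc α * (b * α * b⁻¹) * (β * (b * β * b⁻¹)) = α * ((b * α * b⁻¹) * β) * (b * β * b⁻¹) := by group
        _ = (α * β) * ((b * α * b⁻¹) * (b * β * b⁻¹)) := by rw [m1]; group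
        _ = (u * (β * α)) * ((b * u * b⁻¹) * ((b * β * b⁻¹) * (b * α * b⁻¹))) := by rw [k3, m4]
        _ = u * ((β * α) * (b * u * b⁻¹)) * ((b * β * b⁻¹) * (b * α * b⁻¹)) := by group
        _ = u * ((b * u * b⁻¹) * (β * α)) * ((b * β * b⁻¹) * (b * α * b⁻¹)) := by rw [m3]
        _ = (u * (b * u * b⁻¹)) * (β * (α * (b * β * b⁻¹)) * (b * α * b⁻¹)) := by group
        _ = (u * (b * u * b⁻¹)) * (β * ((b * β * b⁻¹) * α) * (b * α * b⁻¹)) := by rw [m2]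
        _ = e * (β * (b * β * b⁻¹) * (α * (b * α * b⁻¹))) := by rw [he]; group
    have h7 : ψ (P u) * ψ (Q u) = ψ (Q u) * ψ (P u) := heq
    rw [hψ _ hPu, hψ _ hQu, ← map_mul, ← map_mul] at h7
    have h8 := congrArg (fun σ : Equiv.Perm X => ((σ ⟨x0, hx0⟩ : X) : G)) h7
    have h9 : (P u * Q u) * x0 * (P u * Q u)⁻¹ = (Q u * P u) * x0 * (Q u * P u)⁻¹ := h8
    rw [h6] at h9
    -- `e` commutes with `QP`
    have m5 : e * (Q u * P u) = (Q u * P u) * e := by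
      have n1 : ∀ a ∈ RR Om u, e * (a * (b * a * b⁻¹)) = (a * (b * a * b⁻¹)) * e := by
        intro a ha
        have n2 := h.RR_cen ha
        have n3 := h.RR_cen (h.RR_cj ha b)
        have n4 := h.CP_RR c1 ha (h.RR_mem (CS_zz hbu))
        have n5 := h.CP_RR c1 (h.RR_mem (CS_zz hu')) (h.RR_cj ha b)
        have e1 : Commute u a := n2
        have e2 : Commute (b * u * b⁻¹) (b * a * b⁻¹) := n3
        have e3 : Commute (b * u * b⁻¹) a := n4.symm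
        have e4 : Commute u (b * a * b⁻¹) := n5
        rw [he]
        exact ((e1.mul_right e4).mul_left (e3.mul_right e2)).eq
      have e1 : Commute e (Q u) := n1 _ k2
      have e2 : Commute e (P u) := n1 _ k1
      exact (e1.mul_right e2).eq
    refine hcon u (CS_zz hu') (CS_comm h S.isPGroup' hz hu') x0 (hXX x0 hx0).1 (hXX x0 hx0).2 ?_
    rw [← he]
    have h10 : e * (Q u * P u) * x0 * (e * (Q u * P u))⁻¹ = (Q u * P u) * (e * x0 * e⁻¹) * (Q u * P u)⁻¹ := by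
      rw [m5]; group
    rw [h10] at h9
    have h11 : e * x0 * e⁻¹ = x0 := mul_left_cancel (mul_right_cancel h9)
    rw [mul_inv_eq_iff_eq_mul] at h11
    exact h11.symm

end Cfsg.Agent.Cit.Nil.RI
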