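import Cfsg.Agent.Cit.Nil.RI.TRX
import Cfsg.Agent.Cit.Nil.RI.SC
import Cfsg.Agent.Cit.Nil.RG.TEnd

/-!
# S1309, (6b), (C3), `r = 4`, type I pairs exist, `m ≥ 2`, NIL: the end

* `T1.of` : one type I pair, one C-pair, all members conjugate;
* `T1.cx` : the hypothesis `hB` of `RG.false_of_closed`;
* **`T1.false`** : the world `T1` is impossible in `F*(G)` simple, (C3), S1169.
-/

set_option autoImplicit false
set_option linter.style.haveILetI false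
set_option linter.unusedSectionVars false

namespace Cfsg.Agent.Cit.Nil.RI

open Subgroup Cfsg Cfsg.Agent.Cit
open RG (WR CP Ov NilP C3G)
open RFour (ComZ AZ)

variable {G : Type*} [Group G] [Finite G] {Om : Set (Subgroup G)} {K L M X : Subgroup G} {a c d s t u v x y z g k : G}

theorem exists_conj_eq (h : WM Om) (cls : ∀ K ∈ Om, ∀ L ∈ Om, ∃ g, cj g K = L) (hz : InZ Om z) (hu : InZ Om u) :
    ∃ g, g * z * g⁻¹ = u := by
  obtain ⟨K, hK⟩ := hz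
  obtain ⟨L, hL⟩ := hu
  obtain ⟨g, hg⟩ := cls K hK.1 L hL.1
  refine ⟨g, ?_⟩
  have h1 := hK.cj h g
  rw [hg] at h1
  exact h1.2.symm.trans hL.2

theorem T1.of (h : WM Om) (cls : ∀ K ∈ Om, ∀ L ∈ Om, ∃ g, cj g K = L) (hti : TI Om s t) (hx : InZ Om x)
    (hy : InZ Om y) (hc : CP Om x y) (nil : NilP Om) : T1 Om where
  w := h
  ti z hz := by
    obtain ⟨g, rfl⟩ := exists_conj_eq h cls hti.inZ hz
    exact ⟨_, hti.conj h g⟩
  cp z hz := by
    obtain ⟨g, rfl⟩ := exists_conj_eq h cls hx hz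
    exact ⟨_, hy.conj h g, cp_conj h hc g⟩
  nil := nil

theorem ncard_four (h : WM Om) (hz : z ∈ RG.ZZ Om) : (Ov Om z).ncard = 4 := by
  obtain ⟨K, hK, rfl⟩ := hz
  exact h.four K hK

theorem r3 (h : WM Om) : RG.R3 Om := fun z hz => by rw [ncard_four h hz]; omega

theorem two2 (h : WM Om) : RG.Two2 Om := by
  intro z hz
  obtain ⟨K, hK⟩ := hz
  obtain ⟨L, hL, hne⟩ := Mem.other (Om := Om) (z := z) (K := K) hK h
  exact ⟨K, hK, L, hL, hne⟩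

theorem T1.cx (w : T1 Om) (hn : X.Normal) (hZ : ∀ z ∈ RG.ZZ Om, z ∈ X)
    (hi : ∀ K ∈ Om, ∀ y ∈ K, y ∈ X → y = 1 ∨ y = zz K) : RG.CX Om X := by
  intro z hz g hg hne hc
  have r : TrX Om X := ⟨w.w, hn, fun z K hK y hy hyX => by
    have := hi K hK.1 y hy hyX
    rwa [hK.2] at this⟩
  exact r.cp w hZ hz hg hne hc

/-- **the end of T1** -/
theorem T1.false (w : T1 Om) (cls : ∀ K ∈ Om, ∀ L ∈ Om, ∃ g, cj g K = L) (c3 : C3G Om) (f : ROne.FSimp X)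
    (h2 : 2 ∣ Nat.card X) (gold : Cit.ROne.Gold X) (ne : Om.Nonempty) : False := by
  haveI : Fact (Nat.Prime 2) := ⟨Nat.prime_two⟩
  have h := w.w
  have hZ : ∀ z ∈ RG.ZZ Om, z ∈ X := fun z hz => RG.mem_of_fsimp h.hyp h.wr f h2 hz
  obtain ⟨K, hKO⟩ := id ne
  obtain ⟨z, hzK⟩ : ∃ z, z = zz K := ⟨_, rfl⟩
  have hK : K ∈ Ov Om z := ⟨hKO, hzK.symm⟩
  have hz : z ∈ RG.ZZ Om := WR.Ov_zz hK
  obtain ⟨S, hKS⟩ := (h.wr.two hKO).exists_le_sylow
  have c := w.cz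
  have hsc := closed_cz h.wr c S (z := z) ⟨K, hK, hKS⟩
  refine RG.false_of_closed h.wr (two2 h) cls c3 f hZ gold ne (fun hi => w.cx f.nor hZ hi)
    (RG.NoXY.of_r3 h.wr (r3 h)) S (A := AZ (RG.ZZ Om) z) ?_ ?_ (c.AZ_comm hz) hsc
  · intro h1
    have h3 : z ∈ AZ (RG.ZZ Om) z := ComZ.self_mem hz
    rw [h1, mem_bot] at h3
    exact h.wr.zz_ne hz h3
  · rw [AZ, closure_le]
    exact fun u hu => hZ u hu.1

end Cfsg.Agent.Cit.Nil.RI
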