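import Cfsg.Agent.Cit.Nil.RTwo.QLem

/-!
# S1309, (6b), (C3), `r = 4`, any `m`: the setting (helper764, from helper449's `RFour/Def.lean`)

`RFour/Def.lean` without the hypothesis `one` (`m = 1`).

* `WM Om` : members are quaternion of order 8, exactly four over each `z`;
* `Mem Om z K` : `K` is a member over `z`; `InZ Om z`;
* `Inn Om z g` : `g` acts trivially on `K/⟨z⟩` for the members `K` over `z` (`⟺ g ∈ R_z X_z`);
* `CX Om z = X_z`, `RZ Om z = R_z`;
* `Fr Om z K` : `K : Fin 4 → Subgroup G` enumerates the members over `z`;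
* `InZ.comm_of_cent` : `t ∈ Z` centralising a member over `z ≠ t`: `(z, t)` is a C-pair;
* `TI Om z t` : type I.
-/

set_option autoImplicit false
set_option linter.unusedSectionVars false

namespace Cfsg.Agent.Cit.Nil.RI

open Subgroup Cfsg Cfsg.Agent.Cit

open RTwo (Q3 Act i11 i12 i21 i22 i_ne1 i_ne2 i_ne12 i_cases i_cases3)

variable {G : Type*} [Group G]

/-- the world `r = 4` -/
structure WM (Om : Set (Subgroup G)) : Prop where
  hyp : Hyp Om
  card : ∀ K ∈ Om, Nat.card K = 8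
  four : ∀ K ∈ Om, {L | L ∈ Om ∧ zz L = zz K}.ncard = 4

/-- `K` is a member over `z` -/
def Mem (Om : Set (Subgroup G)) (z : G) (K : Subgroup G) : Prop := K ∈ Om ∧ zz K = z

/-- `K 0, …, K 3` are the members over `z` -/
structure Fr (Om : Set (Subgroup G)) (z : G) (K : Fin 4 → Subgroup G) : Prop where
  mem : ∀ i, Mem Om z (K i)
  inj : Function.Injective K
  cov : ∀ M, Mem Om z M → ∃ i, K i = M

/-- `z ∈ Z` -/
def InZ (Om : Set (Subgroup G)) (z : G) : Prop := ∃ K, Mem Om z K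

/-- `g` acts on the members over `z` as an inner automorphism -/
def Inn (Om : Set (Subgroup G)) (z g : G) : Prop :=
  ∀ K, Mem Om z K → ∀ k ∈ K, g * k * g⁻¹ = k ∨ g * k * g⁻¹ = z * k

/-- `X_z` -/
def CX (Om : Set (Subgroup G)) (z : G) : Subgroup G := centralizer {k | ∃ K, Mem Om z K ∧ k ∈ K}

/-- `R_z` -/
def RZ (Om : Set (Subgroup G)) (z : G) : Subgroup G := sSup {K | Mem Om z K}

variable {Om : Set (Subgroup G)} {K L M : Subgroup G} {g g' t x y z : G}

theorem mem_CX : g ∈ CX Om z ↔ ∀ K, Mem Om z K → ∀ k ∈ K, g * k = k * g := by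
  rw [CX, mem_centralizer_iff]
  constructor
  · intro h K hK k hk
    exact (h k ⟨K, hK, hk⟩).symm
  · rintro h k ⟨K, hK, hk⟩
    exact (h K hK k hk).symm

theorem Mem.inZ (h : Mem Om z K) : InZ Om z := ⟨K, h⟩

theorem Mem.le_RZ (h : Mem Om z K) : K ≤ RZ Om z := le_sSup h

theorem RZ_le (h : ∀ K, Mem Om z K → K ≤ M) : RZ Om z ≤ M := sSup_le fun K hK => h K hK

section Fin

variable [Finite G]

theorem WM.isPGroup (h : WM Om) (hK : K ∈ Om) : IsPGroup 2 K := by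
  refine IsPGroup.of_card (n := 3) ?_
  rw [h.card K hK]; norm_num

/-- coordinates of a member -/
theorem WM.exists_q3 (h : WM Om) (hK : Mem Om z K) : ∃ x, Q3 K z x := by
  obtain ⟨hK, rfl⟩ := hK
  obtain ⟨c, v, n, hgq⟩ := h.hyp.exists_gq hK (syl_self (h.isPGroup hK))
  have hn : n = 0 := by
    have h1 := hgq.card
    rw [h.card K hK] at h1
    have h2 : (2 : ℕ) ^ 3 = 2 ^ (n + 3) := by rw [← h1]; norm_num
    have h3 := Nat.pow_right_injective (le_refl 2) h2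
    omega
  subst hn
  have hcc : c * c = zz K := by
    have h1 := hgq.w_sq
    rwa [pow_zero, pow_one] at h1
  have hvv : v * v = zz K := hgq.v_sq
  have hz2 : zz K * zz K = 1 := hgq.z_mul
  have hzc : zz K * c = c * zz K := by rw [← hcc, mul_assoc]
  have hzv : zz K * v = v * zz K := by rw [← hvv, mul_assoc]
  have hci : c⁻¹ = zz K * c := by
    apply inv_eq_of_mul_eq_one_right
    rw [hzc, ← mul_assoc, hcc, hz2]
  have hvc : v * c = zz K * (c * v) := by
    have h1 := hgq.conj_pow 1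
    rw [pow_one] at h1
    rw [h1, hci, mul_assoc]
  have hcvc : c * v * c = v := by
    rw [mul_assoc, hvc]
    calc c * (zz K * (c * v)) = (c * zz K) * (c * v) := by group
      _ = (zz K * c) * (c * v) := by rw [hzc]
      _ = zz K * (c * c) * v := by group
      _ = v := by rw [hcc, hz2, one_mul]
  have hvcv : v * (c * v) = c := by
    calc v * (c * v) = (v * c) * v := by group
      _ = zz K * (c * v) * v := by rw [hvc]
      _ = zz K * (c * (v * v)) := by group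
      _ = zz K * (c * zz K) := by rw [hvv]
      _ = zz K * (zz K * c) := by rw [hzc]
      _ = c := by rw [← mul_assoc, hz2, one_mul]
  -- powers of `c`
  have hpow : ∀ i : ℤ, c ^ i = 1 ∨ c ^ i = c ∨ c ^ i = zz K ∨ c ^ i = zz K * c := by
    intro i
    have h4 : c ^ (4 : ℤ) = 1 := by
      have : c ^ (4 : ℤ) = (c * c) * (c * c) := by
        rw [show (4 : ℤ) = ((4 : ℕ) : ℤ) from rfl, zpow_natCast]
        simp only [pow_succ, pow_zero, one_mul, mul_assoc]
      rw [this, hcc, hz2]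
    have h5 : c ^ i = c ^ (i % 4) := by
      conv_lhs => rw [← Int.emod_add_mul_ediv i 4, zpow_add, zpow_mul, h4, one_zpow, mul_one]
    have h6 : i % 4 = 0 ∨ i % 4 = 1 ∨ i % 4 = 2 ∨ i % 4 = 3 := by omega
    rw [h5]
    rcases h6 with h6 | h6 | h6 | h6 <;> rw [h6]
    · left; exact zpow_zero c
    · right; left; exact zpow_one c
    · right; right; left
      have : c ^ (2 : ℤ) = c * c := by
        rw [show (2 : ℤ) = ((2 : ℕ) : ℤ) from rfl, zpow_natCast, pow_two]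
      rw [this, hcc]
    · right; right; right
      have : c ^ (3 : ℤ) = (c * c) * c := by
        rw [show (3 : ℤ) = ((3 : ℕ) : ℤ) from rfl, zpow_natCast]
        simp only [pow_succ, pow_zero, one_mul]
      rw [this, hcc]
  refine ⟨![c, v, c * v], ?_, ?_, ?_, hz2, hgq.z_ne, ?_⟩
  · intro m
    fin_cases m
    · exact hgq.c_mem
    · exact hgq.v_mem
    · exact mul_mem hgq.c_mem hgq.v_mem
  · intro m
    fin_cases m
    · exact hcc
    · exact hvv
    · show c * v * (c * v) = zz K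
      rw [← mul_assoc, hcvc, hvv]
  · intro m
    fin_cases m
    · rfl
    · exact hvcv
    · exact hcvc
  · intro k hk
    rcases hgq.covZ hk with h1 | ⟨i, h1⟩
    · obtain ⟨i, hi⟩ := mem_zpowers_iff.1 h1
      rcases hpow i with h2 | h2 | h2 | h2
      · left; rw [← hi, h2]
      · right; right; exact ⟨0, Or.inl (by rw [← hi, h2]; rfl)⟩
      · right; left; rw [← hi, h2]
      · right; right; exact ⟨0, Or.inr (by rw [← hi, h2]; rfl)⟩
    · rcases hpow i with h2 | h2 | h2 | h2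
      · right; right; exact ⟨1, Or.inl (by rw [h1, h2, mul_one]; rfl)⟩
      · right; right; exact ⟨2, Or.inr (by rw [h1, h2, hvc]; rfl)⟩
      · right; right; exact ⟨1, Or.inr (by rw [h1, h2, ← hzv]; rfl)⟩
      · right; right
        refine ⟨2, Or.inl ?_⟩
        rw [h1, h2]
        show v * (zz K * c) = c * v
        calc v * (zz K * c) = (v * zz K) * c := by group
          _ = (zz K * v) * c := by rw [hzv]
          _ = zz K * (v * c) := by group
          _ = c * v := by rw [hvc, ← mul_assoc, hz2, one_mul]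

theorem InZ.exists_q3 (hz : InZ Om z) (h : WM Om) : ∃ K x, Mem Om z K ∧ Q3 K z x := by
  obtain ⟨K, hK⟩ := hz
  obtain ⟨x, hx⟩ := h.exists_q3 hK
  exact ⟨K, x, hK, hx⟩

theorem InZ.z2 (hz : InZ Om z) (h : WM Om) : z * z = 1 := by
  obtain ⟨K, x, -, hx⟩ := hz.exists_q3 h; exact hx.z2

theorem InZ.z1 (hz : InZ Om z) (h : WM Om) : z ≠ 1 := by
  obtain ⟨K, x, -, hx⟩ := hz.exists_q3 h; exact hx.z1

theorem InZ.inv (hz : InZ Om z) (h : WM Om) : z⁻¹ = z := inv_eq_of_mul_eq_one_right (hz.z2 h)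

theorem InZ.orderOf (hz : InZ Om z) (h : WM Om) : orderOf z = 2 :=
  orderOf_eq_prime (by rw [pow_two]; exact hz.z2 h) (hz.z1 h)

theorem Mem.zmem (hK : Mem Om z K) (h : WM Om) : z ∈ K := by
  obtain ⟨hK, rfl⟩ := hK; exact h.hyp.zz_mem hK

theorem Mem.comm_z (hK : Mem Om z K) (h : WM Om) {k : G} (hk : k ∈ K) : k * z = z * k := by
  obtain ⟨hK, rfl⟩ := hK
  exact h.hyp.comm_zz hK (le_normalizer hk)

theorem Mem.cj (hK : Mem Om z K) (h : WM Om) (g : G) : Mem Om (g * z * g⁻¹) (Cit.cj g K) := by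
  obtain ⟨hK, rfl⟩ := hK
  exact ⟨h.hyp.conj K hK g, h.hyp.zz_cj hK g⟩

theorem Mem.cj_comm (hK : Mem Om z K) (h : WM Om) (hg : g * z = z * g) : Mem Om z (Cit.cj g K) := by
  have := hK.cj h g
  rwa [hg, mul_inv_cancel_right] at this

theorem Mem.of_cj (hK : Mem Om z K) (h : WM Om) (hg : Cit.cj g K = K) : g * z = z * g := by
  have h1 := hK.cj h g
  rw [hg] at h1
  have h2 : g * z * g⁻¹ = z := h1.2.symm.trans hK.2
  rw [← mul_inv_eq_iff_eq_mul, h2]

theorem InZ.conj (hz : InZ Om z) (h : WM Om) (g : G) : InZ Om (g * z * g⁻¹) := by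
  obtain ⟨K, hK⟩ := hz; exact ⟨_, hK.cj h g⟩

theorem Mem.comm (hK : Mem Om z K) (hL : Mem Om z L) (h : WM Om) (hne : K ≠ L) {k l : G} (hk : k ∈ K)
    (hl : l ∈ L) : k * l = l * k := by
  rcases h.hyp.h2 K hK.1 L hL.1 (hK.2.trans hL.2.symm) with h1 | h1
  · exact absurd h1 hne
  rw [OO_eq_bot_of_two (h.isPGroup hK.1), bot_inf_eq, le_bot_iff, Subgroup.commutator_eq_bot_iff_le_centralizer] at h1
  exact (mem_centralizer_iff.1 (h1 hk) l hl).symm

theorem InZ.exists_fr (hz : InZ Om z) (h : WM Om) : ∃ K, Fr Om z K := by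
  obtain ⟨K, hK, rfl⟩ := hz
  have h4 := h.four K hK
  have hf : Set.Finite {L | L ∈ Om ∧ zz L = zz K} := Set.toFinite _
  have e := Finite.equivFinOfCardEq (α := {L | L ∈ Om ∧ zz L = zz K}) (n := 4)
    (by rw [Nat.card_coe_set_eq]; exact h4)
  refine ⟨fun i => (e.symm i : Subgroup G), fun i => (e.symm i).2, fun i j hij => ?_, fun M hM => ?_⟩
  · exact e.symm.injective (Subtype.ext hij)
  · exact ⟨e ⟨M, hM⟩, by rw [Equiv.symm_apply_apply]⟩

theorem Fr.inZ {K : Fin 4 → Subgroup G} (f : Fr Om z K) : InZ Om z := ⟨K 0, f.mem 0⟩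

theorem Fr.ne {K : Fin 4 → Subgroup G} (f : Fr Om z K) {i j : Fin 4} (hij : i ≠ j) : K i ≠ K j :=
  fun h1 => hij (f.inj h1)

theorem Fr.perm {K : Fin 4 → Subgroup G} (f : Fr Om z K) (σ : Equiv.Perm (Fin 4)) : Fr Om z (fun i => K (σ i)) where
  mem i := f.mem _
  inj := f.inj.comp σ.injective
  cov M hM := by
    obtain ⟨i, hi⟩ := f.cov M hM
    exact ⟨σ.symm i, by rw [Equiv.apply_symm_apply]; exact hi⟩

theorem Fr.conj {K : Fin 4 → Subgroup G} (f : Fr Om z K) (h : WM Om) (g : G) :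
    Fr Om (g * z * g⁻¹) (fun i => Cit.cj g (K i)) where
  mem i := (f.mem i).cj h g
  inj i j hij := f.inj (cj_inj.1 hij)
  cov M hM := by
    have h1 := hM.cj h g⁻¹
    have h2 : g⁻¹ * (g * z * g⁻¹) * g⁻¹⁻¹ = z := by group
    rw [h2] at h1
    obtain ⟨i, hi⟩ := f.cov _ h1
    exact ⟨i, by show Cit.cj g (K i) = M; rw [hi, cj_cj_inv]⟩

/-- a third member -/
theorem Mem.third (hK : Mem Om z K) (hL : Mem Om z L) (h : WM Om) : ∃ M, Mem Om z M ∧ M ≠ K ∧ M ≠ L := by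
  obtain ⟨F, f⟩ := hK.inZ.exists_fr h
  obtain ⟨i, rfl⟩ := f.cov K hK
  obtain ⟨j, rfl⟩ := f.cov L hL
  have h1 : ∀ i j : Fin 4, ∃ k, k ≠ i ∧ k ≠ j := by decide
  obtain ⟨k, h2, h3⟩ := h1 i j
  exact ⟨F k, f.mem k, f.ne h2, f.ne h3⟩

theorem Mem.other (hK : Mem Om z K) (h : WM Om) : ∃ L, Mem Om z L ∧ K ≠ L := by
  obtain ⟨L, hL, h1, -⟩ := hK.third hK h
  exact ⟨L, hL, h1.symm⟩

/-- two given different members are the first two of a frame -/
theorem Mem.exists_fr2 (hK : Mem Om z K) (hL : Mem Om z L) (h : WM Om) (hne : K ≠ L) :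
    ∃ F, Fr Om z F ∧ F 0 = K ∧ F 1 = L := by
  obtain ⟨F, f⟩ := hK.inZ.exists_fr h
  obtain ⟨i, rfl⟩ := f.cov K hK
  obtain ⟨j, rfl⟩ := f.cov L hL
  have hij : i ≠ j := fun h1 => hne (by rw [h1])
  have h1 : ∀ i j : Fin 4, i ≠ j → ∃ σ : Equiv.Perm (Fin 4), σ 0 = i ∧ σ 1 = j := by decide
  obtain ⟨σ, h2, h3⟩ := h1 i j hij
  exact ⟨_, f.perm σ, by show F (σ 0) = F i; rw [h2], by show F (σ 1) = F j; rw [h3]⟩

theorem Mem.exists_fr1 (hK : Mem Om z K) (h : WM Om) : ∃ F, Fr Om z F ∧ F 0 = K := by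
  obtain ⟨L, hL, hne⟩ := hK.other h
  obtain ⟨F, f, h1, -⟩ := hK.exists_fr2 hL h hne
  exact ⟨F, f, h1⟩

/-- three given different members are the first three of a frame -/
theorem Mem.exists_fr3 (hK : Mem Om z K) (hL : Mem Om z L) (hM : Mem Om z M) (h : WM Om) (hne : K ≠ L)
    (hne1 : K ≠ M) (hne2 : L ≠ M) : ∃ F, Fr Om z F ∧ F 0 = K ∧ F 1 = L ∧ F 2 = M := by
  obtain ⟨F, f⟩ := hK.inZ.exists_fr h
  obtain ⟨i, rfl⟩ := f.cov K hK
  obtain ⟨j, rfl⟩ := f.cov L hL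
  obtain ⟨k, rfl⟩ := f.cov M hM
  have hij : i ≠ j := fun h1 => hne (by rw [h1])
  have hik : i ≠ k := fun h1 => hne1 (by rw [h1])
  have hjk : j ≠ k := fun h1 => hne2 (by rw [h1])
  have h1 : ∀ i j k : Fin 4, i ≠ j → i ≠ k → j ≠ k → ∃ σ : Equiv.Perm (Fin 4), σ 0 = i ∧ σ 1 = j ∧ σ 2 = k := by
    decide
  obtain ⟨σ, h2, h3, h4⟩ := h1 i j k hij hik hjk
  exact ⟨_, f.perm σ, by show F (σ 0) = F i; rw [h2], by show F (σ 1) = F j; rw [h3],
    by show F (σ 2) = F k; rw [h4]⟩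

theorem Mem.inf (hK : Mem Om z K) (hL : Mem Om z L) (h : WM Om) (hne : K ≠ L) {k : G} (hk : k ∈ K)
    (hl : k ∈ L) : k = 1 ∨ k = z := by
  obtain ⟨x, hx⟩ := h.exists_q3 hK
  exact hx.cent hk (i_ne1 0) (hK.comm hL h hne (hx.mem _) hl).symm (hK.comm hL h hne (hx.mem _) hl).symm

/-! ### `R_z` and `X_z` -/

/-- `R_z` is the product of the members -/
theorem mem_RZ {K : Fin 4 → Subgroup G} (f : Fr Om z K) (h : WM Om) {r : G} :
    r ∈ RZ Om z ↔ ∃ k : Fin 4 → G, (∀ i, k i ∈ K i) ∧ r = k 0 * k 1 * k 2 * k 3 := by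
  have hc : ∀ {i j : Fin 4} {a b : G}, i ≠ j → a ∈ K i → b ∈ K j → a * b = b * a := fun hij ha hb =>
    (f.mem _).comm (f.mem _) h (f.ne hij) ha hb
  constructor
  · intro hr
    -- the set of products is a subgroup
    let H : Subgroup G :=
      { carrier := {r | ∃ k : Fin 4 → G, (∀ i, k i ∈ K i) ∧ r = k 0 * k 1 * k 2 * k 3}
        mul_mem' := by
          rintro _ _ ⟨k, hk, rfl⟩ ⟨l, hl, rfl⟩
          refine ⟨fun i => k i * l i, fun i => mul_mem (hk i) (hl i), ?_⟩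
          have c1 : k 3 * l 0 = l 0 * k 3 := hc (by decide) (hk 3) (hl 0)
          have c2 : k 2 * l 0 = l 0 * k 2 := hc (by decide) (hk 2) (hl 0)
          have c3 : k 1 * l 0 = l 0 * k 1 := hc (by decide) (hk 1) (hl 0)
          have c4 : k 3 * l 1 = l 1 * k 3 := hc (by decide) (hk 3) (hl 1)
          have c5 : k 2 * l 1 = l 1 * k 2 := hc (by decide) (hk 2) (hl 1)
          have c6 : k 3 * l 2 = l 2 * k 3 := hc (by decide) (hk 3) (hl 2)
          calc k 0 * k 1 * k 2 * k 3 * (l 0 * l 1 * l 2 * l 3)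
              = k 0 * k 1 * k 2 * (k 3 * l 0) * l 1 * l 2 * l 3 := by group
            _ = k 0 * k 1 * (k 2 * l 0) * k 3 * l 1 * l 2 * l 3 := by rw [c1]; group
            _ = k 0 * (k 1 * l 0) * k 2 * k 3 * l 1 * l 2 * l 3 := by rw [c2]; group
            _ = k 0 * l 0 * k 1 * k 2 * (k 3 * l 1) * l 2 * l 3 := by rw [c3]; group
            _ = k 0 * l 0 * k 1 * (k 2 * l 1) * k 3 * l 2 * l 3 := by rw [c4]; group
            _ = k 0 * l 0 * k 1 * l 1 * k 2 * (k 3 * l 2) * l 3 := by rw [c5]; group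
            _ = (k 0 * l 0) * (k 1 * l 1) * (k 2 * l 2) * (k 3 * l 3) := by rw [c6]; group
        one_mem' := ⟨fun _ => 1, fun i => one_mem _, by simp⟩
        inv_mem' := by
          rintro _ ⟨k, hk, rfl⟩
          refine ⟨fun i => (k i)⁻¹, fun i => inv_mem (hk i), ?_⟩
          have c1 : (k 3)⁻¹ * (k 2)⁻¹ = (k 2)⁻¹ * (k 3)⁻¹ := hc (by decide) (inv_mem (hk 3)) (inv_mem (hk 2))
          have c2 : (k 3)⁻¹ * (k 1)⁻¹ = (k 1)⁻¹ * (k 3)⁻¹ := hc (by decide) (inv_mem (hk 3)) (inv_mem (hk 1))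
          have c3 : (k 3)⁻¹ * (k 0)⁻¹ = (k 0)⁻¹ * (k 3)⁻¹ := hc (by decide) (inv_mem (hk 3)) (inv_mem (hk 0))
          have c4 : (k 2)⁻¹ * (k 1)⁻¹ = (k 1)⁻¹ * (k 2)⁻¹ := hc (by decide) (inv_mem (hk 2)) (inv_mem (hk 1))
          have c5 : (k 2)⁻¹ * (k 0)⁻¹ = (k 0)⁻¹ * (k 2)⁻¹ := hc (by decide) (inv_mem (hk 2)) (inv_mem (hk 0))
          have c6 : (k 1)⁻¹ * (k 0)⁻¹ = (k 0)⁻¹ * (k 1)⁻¹ := hc (by decide) (inv_mem (hk 1)) (inv_mem (hk 0))
          calc (k 0 * k 1 * k 2 * k 3)⁻¹ = (k 3)⁻¹ * (k 2)⁻¹ * (k 1)⁻¹ * (k 0)⁻¹ := by group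
            _ = (k 2)⁻¹ * ((k 3)⁻¹ * (k 1)⁻¹) * (k 0)⁻¹ := by rw [c1]; group
            _ = (k 2)⁻¹ * (k 1)⁻¹ * ((k 3)⁻¹ * (k 0)⁻¹) := by rw [c2]; group
            _ = ((k 2)⁻¹ * (k 1)⁻¹) * (k 0)⁻¹ * (k 3)⁻¹ := by rw [c3]; group
            _ = (k 1)⁻¹ * ((k 2)⁻¹ * (k 0)⁻¹) * (k 3)⁻¹ := by rw [c4]; group
            _ = ((k 1)⁻¹ * (k 0)⁻¹) * (k 2)⁻¹ * (k 3)⁻¹ := by rw [c5]; group
            _ = (k 0)⁻¹ * (k 1)⁻¹ * (k 2)⁻¹ * (k 3)⁻¹ := by rw [c6] }
    have h1 : RZ Om z ≤ H := by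
      refine RZ_le fun M hM x hx => ?_
      obtain ⟨i, rfl⟩ := f.cov M hM
      refine ⟨fun j => if j = i then x else 1, fun j => ?_, ?_⟩
      · show (if j = i then x else 1) ∈ K j
        split_ifs with hj
        · rw [hj]; exact hx
        · exact one_mem _
      · fin_cases i <;> simp
    exact h1 hr
  · rintro ⟨k, hk, rfl⟩
    have h1 : ∀ i, k i ∈ RZ Om z := fun i => (f.mem i).le_RZ (hk i)
    exact mul_mem (mul_mem (mul_mem (h1 0) (h1 1)) (h1 2)) (h1 3)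

theorem z_mem_RZ (hz : InZ Om z) (h : WM Om) : z ∈ RZ Om z := by
  obtain ⟨K, hK⟩ := hz; exact hK.le_RZ (hK.zmem h)

theorem z_mem_CX (h : WM Om) : z ∈ CX Om z := by
  rw [mem_CX]
  intro K hK k hk
  exact (hK.comm_z h hk).symm

theorem CX_comm (hr : t ∈ RZ Om z) (hx : x ∈ CX Om z) : x * t = t * x := by
  have h1 : RZ Om z ≤ centralizer {x} := by
    refine RZ_le fun K hK k hk => ?_
    rw [mem_centralizer_singleton_iff]
    exact (mem_CX.1 hx K hK k hk).symm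
  exact (mem_centralizer_singleton_iff.1 (h1 hr)).symm

theorem CX_le (hz : InZ Om z) (h : WM Om) (hx : x ∈ CX Om z) : x * z = z * x := by
  exact CX_comm (z_mem_RZ hz h) hx

theorem RZ_le_centralizer (h : WM Om) (hx : x ∈ RZ Om z) : x * z = z * x := by
  have h1 : RZ Om z ≤ centralizer {z} := by
    refine RZ_le fun K hK k hk => ?_
    rw [mem_centralizer_singleton_iff]
    exact hK.comm_z h hk
  exact mem_centralizer_singleton_iff.1 (h1 hx)

theorem CX_conj (h : WM Om) (g : G) : g * x * g⁻¹ ∈ CX Om (g * z * g⁻¹) ↔ x ∈ CX Om z := by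
  have key : ∀ (g x z : G), x ∈ CX Om z → g * x * g⁻¹ ∈ CX Om (g * z * g⁻¹) := by
    intro g x z hx
    rw [mem_CX] at hx ⊢
    intro K hK k hk
    have h1 := hK.cj h g⁻¹
    have h2 : g⁻¹ * (g * z * g⁻¹) * g⁻¹⁻¹ = z := by group
    rw [h2] at h1
    have h3 := hx _ h1 _ (conj_mem_cj (g := g⁻¹) hk)
    calc g * x * g⁻¹ * k = g * (x * (g⁻¹ * k * g⁻¹⁻¹)) * g⁻¹ := by group
      _ = g * (g⁻¹ * k * g⁻¹⁻¹ * x) * g⁻¹ := by rw [h3]
      _ = _ := by group
  refine ⟨fun hx => ?_, key g x z⟩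
  have := key g⁻¹ _ _ hx
  have h1 : g⁻¹ * (g * x * g⁻¹) * g⁻¹⁻¹ = x := by group
  have h2 : g⁻¹ * (g * z * g⁻¹) * g⁻¹⁻¹ = z := by group
  rwa [h1, h2] at this

theorem CX_conj_comm (h : WM Om) (hg : g * z = z * g) (hx : x ∈ CX Om z) : g * x * g⁻¹ ∈ CX Om z := by
  have := (CX_conj h g).2 hx
  rwa [hg, mul_inv_cancel_right] at this

theorem RZ_conj (h : WM Om) (g : G) (hx : x ∈ RZ Om z) : g * x * g⁻¹ ∈ RZ Om (g * z * g⁻¹) := by
  have h1 : RZ Om z ≤ (RZ Om (g * z * g⁻¹)).comap (MulAut.conj g).toMonoidHom := by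
    refine RZ_le fun K hK k hk => ?_
    exact (hK.cj h g).le_RZ (conj_mem_cj hk)
  exact h1 hx

theorem RZ_conj_comm (h : WM Om) (hg : g * z = z * g) (hx : x ∈ RZ Om z) : g * x * g⁻¹ ∈ RZ Om z := by
  have := RZ_conj h g hx
  rwa [hg, mul_inv_cancel_right] at this

/-! ### `Inn` -/

theorem Inn.comm_z (hi : Inn Om z g) (hz : InZ Om z) (h : WM Om) : g * z = z * g := by
  obtain ⟨K, hK⟩ := hz
  rcases hi K hK z (hK.zmem h) with h1 | h1
  · rw [← mul_inv_eq_iff_eq_mul, h1]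
  · rw [hK.inZ.z2 h, mul_inv_eq_one] at h1
    exact absurd (mul_eq_left.1 h1) (hK.inZ.z1 h)

theorem Inn.one : Inn Om z (1 : G) := fun _ _ _ _ => Or.inl (by group)

theorem Inn.mul (hg : Inn Om z g) (hg' : Inn Om z g') (hz : InZ Om z) (h : WM Om) : Inn Om z (g * g') := by
  intro K hK k hk
  have hgz := hg.comm_z hz h
  have h1 : g * g' * k * (g * g')⁻¹ = g * (g' * k * g'⁻¹) * g⁻¹ := by group
  have h2 : g * (z * k) * g⁻¹ = z * (g * k * g⁻¹) := by
    calc g * (z * k) * g⁻¹ = (g * z) * k * g⁻¹ := by group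
      _ = (z * g) * k * g⁻¹ := by rw [hgz]
      _ = _ := by group
  rw [h1]
  rcases hg' K hK k hk with h3 | h3
  · rw [h3]; exact hg K hK k hk
  · rw [h3, h2]
    rcases hg K hK k hk with h4 | h4
    · right; rw [h4]
    · left; rw [h4, ← mul_assoc, hz.z2 h, one_mul]

theorem Inn.inv (hg : Inn Om z g) (hz : InZ Om z) (h : WM Om) : Inn Om z g⁻¹ := by
  intro K hK k hk
  have hgz := hg.comm_z hz h
  rcases hg K hK k hk with h1 | h1
  · left
    conv_lhs => rw [← h1]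
    group
  · right
    have h2 : k = z * (g * k * g⁻¹) := by rw [h1, ← mul_assoc, hz.z2 h, one_mul]
    calc g⁻¹ * k * g⁻¹⁻¹ = g⁻¹ * (z * (g * k * g⁻¹)) * g⁻¹⁻¹ := by rw [← h2]
      _ = g⁻¹ * (z * g) * k := by group
      _ = g⁻¹ * (g * z) * k := by rw [hgz]
      _ = _ := by group

theorem Inn.mul_left (hg : Inn Om z g) (hgg : Inn Om z (g * g')) (hz : InZ Om z) (h : WM Om) : Inn Om z g' := by
  have := (hg.inv hz h).mul hgg hz h
  rwa [inv_mul_cancel_left] at this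

theorem Inn.mul_right (hg : Inn Om z g') (hgg : Inn Om z (g * g')) (hz : InZ Om z) (h : WM Om) : Inn Om z g := by
  have := hgg.mul (hg.inv hz h) hz h
  rwa [mul_inv_cancel_right] at this

theorem Inn.of_CX (hx : x ∈ CX Om z) : Inn Om z x := by
  intro K hK k hk
  left
  rw [mem_CX.1 hx K hK k hk, mul_inv_cancel_right]

theorem Inn.of_mem (hL : Mem Om z L) (h : WM Om) (hg : g ∈ L) : Inn Om z g := by
  intro K hK k hk
  by_cases hne : K = L
  · subst hne
    obtain ⟨x, hx⟩ := h.exists_q3 hK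
    have hz : z ∈ K := hK.zmem h
    rcases hx.cov g hg with rfl | rfl | ⟨i, hi⟩
    · left; group
    · left; rw [← hK.comm_z h hk, mul_inv_cancel_right]
    · have h1 : g * k * g⁻¹ = x i * k * (x i)⁻¹ := by
        rcases hi with rfl | rfl
        · rfl
        · have h2 : (z * x i * k * (z * x i)⁻¹) = z * (x i * k * (x i)⁻¹) * z⁻¹ := by group
          rw [h2, ← hK.comm_z h (mul_mem (mul_mem (hx.mem i) hk) (inv_mem (hx.mem i))), mul_inv_cancel_right]
      rw [h1]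
      rcases hx.cov k hk with rfl | rfl | ⟨j, hj⟩
      · left; group
      · left; rw [← hx.zc, mul_inv_cancel_right]
      · have h3 : x i * x j * (x i)⁻¹ = x j ∨ x i * x j * (x i)⁻¹ = z * x j := by
          by_cases hij : i = j
          · subst hij; left; exact Q3.conj_self i
          · right; exact hx.conj_ne hij
        rcases hj with rfl | rfl
        · exact h3
        · have h4 : x i * (z * x j) * (x i)⁻¹ = z * (x i * x j * (x i)⁻¹) := by
            calc x i * (z * x j) * (x i)⁻¹ = (x i * z) * x j * (x i)⁻¹ := by group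
              _ = (z * x i) * x j * (x i)⁻¹ := by rw [hx.zc]
              _ = _ := by group
          rw [h4]
          rcases h3 with h3 | h3
          · left; rw [h3]
          · right; rw [h3]
  · left
    rw [← hK.comm hL h hne hk hg, mul_inv_cancel_right]

theorem Inn.of_RZ (hz : InZ Om z) (h : WM Om) (hr : g ∈ RZ Om z) : Inn Om z g := by
  obtain ⟨K, f⟩ := hz.exists_fr h
  obtain ⟨k, hk, rfl⟩ := (mem_RZ f h).1 hr
  exact (((Inn.of_mem (f.mem 0) h (hk 0)).mul (Inn.of_mem (f.mem 1) h (hk 1)) hz h).mul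
    (Inn.of_mem (f.mem 2) h (hk 2)) hz h).mul (Inn.of_mem (f.mem 3) h (hk 3)) hz h

theorem Inn.conj (hi : Inn Om z x) (h : WM Om) (g : G) : Inn Om (g * z * g⁻¹) (g * x * g⁻¹) := by
  intro K hK k hk
  have h1 := hK.cj h g⁻¹
  have h2 : g⁻¹ * (g * z * g⁻¹) * g⁻¹⁻¹ = z := by group
  rw [h2] at h1
  have h3 : g * x * g⁻¹ * k * (g * x * g⁻¹)⁻¹ = g * (x * (g⁻¹ * k * g⁻¹⁻¹) * x⁻¹) * g⁻¹ := by group
  rcases hi _ h1 _ (conj_mem_cj (g := g⁻¹) hk) with h4 | h4
  · left; rw [h3, h4]; group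
  · right; rw [h3, h4]; group

theorem Inn.conj_comm (hi : Inn Om z x) (h : WM Om) (hg : g * z = z * g) : Inn Om z (g * x * g⁻¹) := by
  have := hi.conj h g
  rwa [hg, mul_inv_cancel_right] at this

theorem Inn.cj_eq (hi : Inn Om z g) (hK : Mem Om z K) (h : WM Om) : Cit.cj g K = K := by
  have key : ∀ g, Inn Om z g → Cit.cj g K ≤ K := by
    rintro g hi _ ⟨k, hk, rfl⟩
    rcases hi K hK k hk with h1 | h1
    · show g * k * g⁻¹ ∈ K
      rw [h1]; exact hk
    · show g * k * g⁻¹ ∈ K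
      rw [h1]; exact mul_mem (hK.zmem h) hk
  refine le_antisymm (key g hi) ?_
  have h1 := key g⁻¹ (hi.inv hK.inZ h)
  have h2 := cj_mono g h1
  rwa [cj_cj_inv] at h2

/-! ### The trichotomy -/

/-- `t ∈ Z` centralising a member over `z ≠ t` : C-pair -/
theorem InZ.comm_of_cent (hK : Mem Om z K) (hL : Mem Om t L) (h : WM Om) (hne : z ≠ t)
    (hc : ∀ k ∈ K, t * k = k * t) : ∀ k ∈ K, ∀ l ∈ L, k * l = l * k := by
  have hKL : K ≠ L := by
    rintro rfl
    exact hne (hK.2.symm.trans hL.2)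
  exact h.hyp.comm_of_zz_comm hK.1 hL.1 (h.isPGroup hK.1) (h.isPGroup hL.1)
    (fun k hk => by rw [hL.2]; exact (hc k hk).symm) hKL

/-- if `t` centralises one member over `z`, it centralises all -/
theorem InZ.cent_all (hK : Mem Om z K) (ht : InZ Om t) (h : WM Om) (hne : z ≠ t)
    (hc : ∀ k ∈ K, t * k = k * t) (hM : Mem Om z M) : ∀ k ∈ M, t * k = k * t := by
  obtain ⟨L, hL⟩ := ht
  have h1 := InZ.comm_of_cent hK hL h hne hc
  have h2 : ∀ l ∈ L, z * l = l * z := fun l hl => h1 z (hK.zmem h) l hl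
  have h3 := InZ.comm_of_cent hL hM h hne.symm h2
  exact fun k hk => h3 t (hL.zmem h) k hk

/-- (H3) -/
theorem WM.h3 (h : WM Om) (hK : Mem Om z K) (hL : Mem Om t L) (hy : y ∈ K) (hs : y * y = z)
    (hyt : y * t = t * y) : cj y L = L := by
  rw [← mem_normalizer_iff_cj]
  refine h.hyp.h3 K hK.1 L hL.1 y hy ?_ ?_ (by rw [hL.2]; exact hyt)
  · exact (h.isPGroup hK.1).to_le (by rwa [zpowers_le])
  · have h1 : orderOf y = 4 := by
      have h2 := orderOf_eq_prime_pow (p := 2) (n := 1) (x := y)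
        (by rw [pow_one, pow_two, hs]; exact hK.inZ.z1 h)
        (by
          have : y ^ 2 ^ (1 + 1) = (y * y) * (y * y) := by
            show y ^ 4 = _
            simp only [pow_succ, pow_zero, one_mul, mul_assoc]
          rw [this, hs, hK.inZ.z2 h])
      simpa using h2
    omega

/-- `t` inner on one member over `z`: `z` is inner on the members over `t` -/
theorem WM.inn_of_one (h : WM Om) (hK : Mem Om z K) (ht : InZ Om t) (hne : t ≠ z)
    (hi : ∀ k ∈ K, t * k * t⁻¹ = k ∨ t * k * t⁻¹ = z * k) : Inn Om t z := by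
  obtain ⟨x, hx⟩ := h.exists_q3 hK
  rcases hx.inner_cases hi with h1 | ⟨j, h1⟩
  · intro L hL l hl
    left
    have h2 := InZ.comm_of_cent hK hL h hne.symm (fun k hk => by
      have := h1 k hk; rwa [mul_inv_eq_iff_eq_mul] at this) z (hK.zmem h) l hl
    rw [h2, mul_inv_cancel_right]
  have hyt : x j * t = t * x j := by
    have := h1 (x j) (hx.mem j)
    rw [Q3.conj_self, mul_inv_eq_iff_eq_mul] at this
    exact this.symm
  have hzt : z * t = t * z := by
    rw [← hx.sq j, mul_assoc, hyt, ← mul_assoc, hyt, mul_assoc]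
  intro L hL
  obtain ⟨l, hl⟩ := h.exists_q3 hL
  have h2 := h.h3 hK hL (hx.mem j) (hx.sq j) hyt
  obtain ⟨σ, hσ⟩ := hl.exists_act hl h2 hyt
  have h3 : Act t l l z (σ * σ) := by
    have := hσ.comp hl.z2 hσ hyt
    rwa [hx.sq] at this
  have h5 : Act t l l (z * z) (σ * σ * (σ * σ)) := h3.comp hl.z2 h3 hzt
  rw [hx.z2] at h5
  have h6 := h5.unique hl (Act.one l t)
  have h7 : ∀ σ : Equiv.Perm (Fin 3), σ * σ * (σ * σ) = 1 → σ * σ = 1 := by decide
  have h8 := h7 σ h6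
  rw [h8] at h3
  exact h3.inner hl hzt

/-- **trichotomy**: `t` inner on one member over `z` implies type I -/
theorem WM.inn_both (h : WM Om) (hK : Mem Om z K) (ht : InZ Om t) (hne : t ≠ z)
    (hi : ∀ k ∈ K, t * k * t⁻¹ = k ∨ t * k * t⁻¹ = z * k) : Inn Om z t ∧ Inn Om t z := by
  have h1 := h.inn_of_one hK ht hne hi
  obtain ⟨L, hL⟩ := ht
  exact ⟨h.inn_of_one hL hK.inZ hne.symm (h1 L hL), h1⟩

theorem Inn.symm (hi : Inn Om z t) (hz : InZ Om z) (ht : InZ Om t) (h : WM Om) : Inn Om t z := by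
  by_cases hne : t = z
  · subst hne; exact Inn.of_CX (z_mem_CX h)
  obtain ⟨K, hK⟩ := hz
  exact h.inn_of_one hK ht hne (hi K hK)

/-- `(z, t)` is a pair of type I -/
def TI (Om : Set (Subgroup G)) (z t : G) : Prop :=
  InZ Om z ∧ InZ Om t ∧ z ≠ t ∧ z * t = t * z ∧ Inn Om z t ∧ ∀ K, Mem Om z K → ¬ ∀ k ∈ K, t * k = k * t

theorem TI.inZ (h : TI Om z t) : InZ Om z := h.1
theorem TI.inT (h : TI Om z t) : InZ Om t := h.2.1
theorem TI.ne (h : TI Om z t) : z ≠ t := h.2.2.1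
theorem TI.comm (h : TI Om z t) : z * t = t * z := h.2.2.2.1
theorem TI.inn (h : TI Om z t) : Inn Om z t := h.2.2.2.2.1
theorem TI.nc (h : TI Om z t) (hK : Mem Om z K) : ¬ ∀ k ∈ K, t * k = k * t := h.2.2.2.2.2 K hK

theorem TI.symm (hti : TI Om z t) (h : WM Om) : TI Om t z := by
  refine ⟨hti.inT, hti.inZ, hti.ne.symm, hti.comm.symm, hti.inn.symm hti.inZ hti.inT h, fun L hL hc => ?_⟩
  obtain ⟨K, hK⟩ := hti.inZ
  have h1 := InZ.comm_of_cent hL hK h hti.ne.symm hc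
  exact hti.nc hK fun k hk => h1 t (hL.zmem h) k hk

theorem TI.conj (hti : TI Om z t) (h : WM Om) (g : G) : TI Om (g * z * g⁻¹) (g * t * g⁻¹) := by
  refine ⟨hti.inZ.conj h g, hti.inT.conj h g, fun h1 => hti.ne (mul_left_cancel (mul_right_cancel h1)), ?_,
    hti.inn.conj h g, fun K hK hc => ?_⟩
  · calc g * z * g⁻¹ * (g * t * g⁻¹) = g * (z * t) * g⁻¹ := by group
      _ = g * (t * z) * g⁻¹ := by rw [hti.comm]
      _ = _ := by group
  · have h1 := hK.cj h g⁻¹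
    have h2 : g⁻¹ * (g * z * g⁻¹) * g⁻¹⁻¹ = z := by group
    rw [h2] at h1
    refine hti.nc h1 fun k hk => ?_
    rw [mem_cj, inv_inv] at hk
    have h3 := hc _ hk
    calc t * k = g⁻¹ * (g * t * g⁻¹ * (g * k * g⁻¹)) * g := by group
      _ = g⁻¹ * (g * k * g⁻¹ * (g * t * g⁻¹)) * g := by rw [h3]
      _ = k * t := by group

/-- `t ∈ Z`, inner and not trivial on one member over `z`, is of type I -/
theorem TI.of_one (h : WM Om) (hK : Mem Om z K) (ht : InZ Om t) (hne : z ≠ t)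
    (hi : ∀ k ∈ K, t * k * t⁻¹ = k ∨ t * k * t⁻¹ = z * k) (hn : ¬ ∀ k ∈ K, t * k = k * t) : TI Om z t := by
  have h1 := h.inn_both hK ht hne.symm hi
  exact ⟨hK.inZ, ht, hne, (h1.1.comm_z hK.inZ h).symm, h1.1, fun M hM hc =>
    hn (InZ.cent_all hM ht h hne hc hK)⟩

end Fin

end Cfsg.Agent.Cit.Nil.RI
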