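import Cfsg.Agent.Cit.Nil.RI.TypeI

/-!
# `r = 4`, any `m`: the action of `X_z` on `R_t` (section 2 of `blueprints/CIT-6b-r4m1-helper449.md`)

* `TI.fix` : `n ∈ X_z` normalises all members over a type I neighbour `t`;
* `TI.transfer` : `n ∈ X_z` trivial on one member over `t` is trivial on all members over `z t`;
* `TI.CX_or` : `n ∈ X_z` implies `n ∈ X_t` or `z n ∈ X_t`;
* `TI.CX_const` : `n ∈ X_z ∩ X_t` implies `n ∈ X_t'` for all type I neighbours `t'` of `z`;
* `N0 Om z`, `mem_N0`, `TI.N0_or`, `TI.N0_eq`, `N0_conj`, `N0_le`.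
-/

set_option autoImplicit false
set_option linter.style.haveILetI false
set_option linter.unusedSectionVars false

namespace Cfsg.Agent.Cit.Nil.RI

open Subgroup Cfsg Cfsg.Agent.Cit

open RTwo (Q3 Act i11 i12 i21 i22 i_ne1 i_ne2 i_ne12 i_cases i_cases3)

variable {G : Type*} [Group G] [Finite G] {Om : Set (Subgroup G)} {K K' L L' M : Subgroup G}
  {z t t' g n x x' y y' u s : G}

theorem CX_as (hn : n ∈ CX Om z) (hK : Mem Om z K) : As K n 1 := As.one_iff.2 (mem_CX.1 hn K hK)

theorem mem_CX_of_as (hn : ∀ K, Mem Om z K → As K n 1) : n ∈ CX Om z :=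
  mem_CX.2 fun K hK => As.one_iff.1 (hn K hK)

/-- **(2.1)** -/
theorem TI.fix (hti : TI Om z t) (h : WM Om) (hn : n ∈ CX Om z) (hL : Mem Om t L) : cj n L = L := by
  have hnt : n * t = t * n := CX_comm (hti.mem_RZ h) hn
  by_contra hne
  obtain ⟨x, hx, hxx⟩ := (hti.symm h).exists_as h hL
  have hLn : Mem Om t (cj n L) := hL.cj_comm h hnt
  have key : ∀ L', Mem Om t L' → L ≠ L' → cj n L' = L := by
    intro L' hL' hLL'
    by_contra hne'
    obtain ⟨x', hx', -⟩ := (hti.symm h).exists_as h hL'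
    have hc : n * (x * x') = (x * x') * n := CX_comm (hti.xx_mem h hL hL' hLL' hx hx') hn
    have h1 : (n * x * n⁻¹) * (n * x' * n⁻¹) = x * x' := by
      calc (n * x * n⁻¹) * (n * x' * n⁻¹) = n * (x * x') * n⁻¹ := by group
        _ = x * x' := by rw [hc, mul_inv_cancel_right]
    have h2 : As L (x * x') x := by
      have := (As.self hx.1).mul (hL.as_one hL' h hLL' hx'.1)
      rwa [mul_one] at this
    have h3 : As L (x * x') 1 := by
      rw [← h1]
      have := (hL.as_one hLn h (Ne.symm hne) (conj_mem_cj (g := n) hx.1)).mul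
        (hL.as_one (hL'.cj_comm h hnt) h (Ne.symm hne') (conj_mem_cj (g := n) hx'.1))
      rwa [mul_one] at this
    exact hL.not_as_one h h2 hxx h3
  obtain ⟨L', hL', h1⟩ := hL.other h
  obtain ⟨L'', hL'', h2, h3⟩ := hL.third hL' h
  exact h3 (cj_inj.1 ((key L'' hL'' (Ne.symm h2)).trans (key L' hL' h1).symm))

/-- **(2.3)** -/
theorem TI.transfer (hti : TI Om z t) (h : WM Om) (hn : n ∈ CX Om z) (hL : Mem Om t L) (hnL : As L n 1)
    (hM : Mem Om (z * t) M) : As M n 1 := by
  obtain ⟨x, hx, hxx⟩ := (hti.symm h).exists_as h hL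
  obtain ⟨u, hu, huu, hxu⟩ := hL.exists_nc h hx.1 hxx
  have e1 := hti.conj_z h hL hx hu huu hxu
  have hK : Mem Om z (cj u⁻¹ M) := by
    have := hM.cj h u⁻¹
    rw [← e1] at this
    have h2 : u⁻¹ * (u * z * u⁻¹) * u⁻¹⁻¹ = z := by group
    rwa [h2] at this
  have hnu : u * n = n * u := (As.one_iff.1 hnL u hu).symm
  refine As.one_iff.2 fun m hm => ?_
  have h1 : u⁻¹ * m * u⁻¹⁻¹ ∈ cj u⁻¹ M := conj_mem_cj hm
  have h2 := mem_CX.1 hn _ hK _ h1
  have h3 : m = u * (u⁻¹ * m * u⁻¹⁻¹) * u⁻¹ := by group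
  have h4 : n * u⁻¹ = u⁻¹ * n := by
    rw [eq_inv_mul_iff_mul_eq, ← mul_assoc, hnu, mul_inv_cancel_right]
  calc n * m = n * (u * (u⁻¹ * m * u⁻¹⁻¹) * u⁻¹) := by rw [← h3]
    _ = (n * u) * (u⁻¹ * m * u⁻¹⁻¹) * u⁻¹ := by group
    _ = (u * n) * (u⁻¹ * m * u⁻¹⁻¹) * u⁻¹ := by rw [hnu]
    _ = u * (n * (u⁻¹ * m * u⁻¹⁻¹)) * u⁻¹ := by group
    _ = u * ((u⁻¹ * m * u⁻¹⁻¹) * n) * u⁻¹ := by rw [h2]
    _ = u * (u⁻¹ * m * u⁻¹⁻¹) * (n * u⁻¹) := by group
    _ = u * (u⁻¹ * m * u⁻¹⁻¹) * (u⁻¹ * n) := by rw [h4]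
    _ = m * n := by group

theorem zzt (hz : InZ Om z) (h : WM Om) : z * (z * t) = t := by rw [← mul_assoc, hz.z2 h, one_mul]

/-- **(2.3)**: all members over `t` -/
theorem TI.transfer' (hti : TI Om z t) (h : WM Om) (hn : n ∈ CX Om z) (hL : Mem Om t L) (hnL : As L n 1)
    (hL' : Mem Om t L') : As L' n 1 := by
  obtain ⟨M, hM⟩ := hti.inZ_mul h
  have h1 := hti.transfer h hn hL hnL hM
  refine (hti.mul_right h).transfer h hn hM h1 ?_
  rw [zzt hti.inZ h]
  exact hL'

theorem TI.CX_of_as (hti : TI Om z t) (h : WM Om) (hn : n ∈ CX Om z) (hL : Mem Om t L) (hnL : As L n 1) :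
    n ∈ CX Om t :=
  mem_CX_of_as fun _ hL' => hti.transfer' h hn hL hnL hL'

theorem TI.CX_mul (hti : TI Om z t) (h : WM Om) (hn : n ∈ CX Om z) (hnt : n ∈ CX Om t) : n ∈ CX Om (z * t) := by
  obtain ⟨L, hL⟩ := hti.inT
  exact mem_CX_of_as fun _ hM => hti.transfer h hn hL (CX_as hnt hL) hM

theorem z_mul_CX (h : WM Om) (hn : n ∈ CX Om z) : z * n ∈ CX Om z := mul_mem (z_mem_CX h) hn

/-- **(2.2)** -/
theorem TI.cases_L (hti : TI Om z t) (h : WM Om) (hn : n ∈ CX Om z) (hL : Mem Om t L) (hx : As L z x) :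
    As L n 1 ∨ As L (z * n) 1 ∨ ∃ w ∈ L, As L z w ∧ w * w = t ∧ ∀ M, Mem Om (z * t) M → ∀ m ∈ M,
      n * m * n⁻¹ = w * m * w⁻¹ := by
  have hxx := (hti.symm h).sq_of_as h hL hx
  obtain ⟨u, hu, huu, hxu⟩ := hL.exists_nc h hx.1 hxx
  obtain ⟨K, hK⟩ := hti.inZ
  obtain ⟨y, hy, hyy⟩ := hti.exists_as h hK
  have hnt : n * t = t * n := CX_comm (hti.mem_RZ h) hn
  have hnz : n * z = z * n := CX_le hK.inZ h hn
  have hny : n * y = y * n := mem_CX.1 hn K hK y hy.1
  have hfix := hti.fix h hn hL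
  have htt := hL.inZ.z2 h
  have htx : t * x = x * t := (hL.comm_z h hx.1).symm
  have htu : t * u = u * t := (hL.comm_z h hu).symm
  obtain ⟨c, qc, hc0, hc1⟩ := hL.exists_q2 h hx.1 hxx hu huu hxu
  -- the case `n u = u n`
  have caseA : ∀ n, n ∈ CX Om z → n * u = u * n → As L n 1 := by
    intro n hn hnu
    have hny : n * y = y * n := mem_CX.1 hn K hK y hy.1
    have hnt : n * t = t * n := CX_comm (hti.mem_RZ h) hn
    obtain ⟨-, h1, h2⟩ := hti.rot h hK hL hy hx
    have h3 : n * (x * u) = (x * u) * n := by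
      have h4 : n * (y * u * y⁻¹) = (y * u * y⁻¹) * n := by
        have h5 : n * y⁻¹ = y⁻¹ * n := by
          rw [eq_inv_mul_iff_mul_eq, ← mul_assoc, ← hny, mul_inv_cancel_right]
        calc n * (y * u * y⁻¹) = (n * y) * u * y⁻¹ := by group
          _ = y * (n * u) * y⁻¹ := by rw [hny]; group
          _ = y * u * (n * y⁻¹) := by rw [hnu]; group
          _ = _ := by rw [h5]; group
      rcases h2 u hu huu hxu with h6 | h6
      · rwa [h6] at h4
      · rw [h6] at h4
        have h7 : n * (t * (x * u)) = t * (n * (x * u)) := by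
          rw [← mul_assoc, hnt, mul_assoc]
        rw [h7, mul_assoc t] at h4
        exact mul_left_cancel h4
    have h4 : n * x = x * n := by
      apply mul_right_cancel (b := u)
      calc n * x * u = n * (x * u) := by group
        _ = x * (u * n) := by rw [h3]; group
        _ = x * n * u := by rw [← hnu]; group
    refine As.one_iff.2 fun k hk => ?_
    refine qc.comm_of ?_ ?_ hk
    · rw [hc0]; exact h4
    · rw [hc1]; exact hnu
  -- `n u n⁻¹`
  have hnx : n * x * n⁻¹ = x ∨ n * x * n⁻¹ = t * x := by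
    have h1 := hx.conj n
    rw [hfix, hnz, mul_inv_cancel_right] at h1
    exact hL.as_unique h hx h1
  have hnuL : n * u * n⁻¹ ∈ L := by
    have := conj_mem_cj (g := n) hu
    rwa [hfix] at this
  have hnuu : (n * u * n⁻¹) * (n * u * n⁻¹) = t := by
    calc (n * u * n⁻¹) * (n * u * n⁻¹) = n * (u * u) * n⁻¹ := by group
      _ = t := by rw [huu, hnt, mul_inv_cancel_right]
  obtain ⟨i, hi⟩ := qc.of_sq hnuL hnuu
  rw [← hc0] at hnx
  have hi0 : i ≠ 0 := by
    intro hi0
    rw [hi0] at hi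
    -- `n u n⁻¹ = ± x = ± n x n⁻¹`
    have h1 : u = x ∨ u = t * x := by
      have key : ∀ p q : G, n * p * n⁻¹ = n * q * n⁻¹ → p = q := fun p q hpq =>
        mul_left_cancel (mul_right_cancel hpq)
      have e : n * (t * x) * n⁻¹ = t * (n * x * n⁻¹) := by
        calc n * (t * x) * n⁻¹ = (n * t) * x * n⁻¹ := by group
          _ = (t * n) * x * n⁻¹ := by rw [hnt]
          _ = _ := by group
      rw [hc0] at hi hnx
      rcases hi with hi | hi <;> rcases hnx with hnx | hnx
      · left; exact key _ _ (hi.trans hnx.symm)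
      · right; apply key; rw [e, hnx, ← mul_assoc, htt, one_mul, hi]
      · right; apply key; rw [e, hnx, hi]
      · left; exact key _ _ (hi.trans hnx.symm)
    rcases h1 with h1 | h1
    · exact hxu (by rw [h1])
    · exact hxu (by rw [h1, ← mul_assoc, ← htx, mul_assoc])
  have hi12 : i = 1 ∨ i = 2 := by
    have hf : ∀ i : Fin 3, i ≠ 0 → i = 1 ∨ i = 2 := by decide
    exact hf i hi0
  rcases hi12 with rfl | rfl
  · rw [hc1] at hi
    rcases hi with hi | hi
    · left; exact caseA n hn (by rwa [mul_inv_eq_iff_eq_mul] at hi)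
    · right; left
      refine caseA (z * n) (z_mul_CX h hn) ?_
      rw [mul_inv_eq_iff_eq_mul] at hi
      have h1 : z * u * z⁻¹ = t * u := by
        rw [hx.2 u hu]; exact hL.anti h hu huu hx.1 hxx (fun h3 => hxu h3.symm)
      rw [mul_inv_eq_iff_eq_mul] at h1
      calc z * n * u = z * (n * u) := by group
        _ = z * (t * u * n) := by rw [hi]
        _ = (z * t) * u * n := by group
        _ = (t * z) * u * n := by rw [hti.comm]
        _ = t * (z * u) * n := by group
        _ = t * (t * u * z) * n := by rw [h1]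
        _ = (t * t) * u * (z * n) := by group
        _ = u * (z * n) := by rw [htt, one_mul]
  · right; right
    have hc2 : c 2 = x * u := by
      have := qc.mul 0
      simp only [zero_add] at this
      rw [hc0, hc1] at this
      exact this.symm
    rw [hc2] at hi
    -- `n u n⁻¹ = w u`
    have h1 : ∃ w ∈ L, As L z w ∧ w * w = t ∧ n * u * n⁻¹ = w * u := by
      rcases hi with hi | hi
      · exact ⟨x, hx.1, hx, hxx, hi⟩
      · refine ⟨t * x, mul_mem (hL.zmem h) hx.1, ?_, ?_, by rw [hi, mul_assoc]⟩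
        · refine ⟨mul_mem (hL.zmem h) hx.1, fun k hk => ?_⟩
          rw [hx.2 k hk]
          have h2 : t * (x * k * x⁻¹) * t⁻¹ = x * k * x⁻¹ := by
            rw [← hL.comm_z h (mul_mem (mul_mem hx.1 hk) (inv_mem hx.1)), mul_inv_cancel_right]
          rw [← h2]; group
        · calc t * x * (t * x) = t * (x * t) * x := by group
            _ = t * (t * x) * x := by rw [htx]
            _ = (t * t) * (x * x) := by group
            _ = t := by rw [htt, hxx, one_mul]
    obtain ⟨w, hwL, hw, hww, hwu⟩ := h1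
    refine ⟨w, hwL, hw, hww, fun M hM m hm => ?_⟩
    have e1 := hti.conj_z h hL hx hu huu hxu
    have hK' : Mem Om z (cj u⁻¹ M) := by
      have := hM.cj h u⁻¹
      rw [← e1] at this
      have h2 : u⁻¹ * (u * z * u⁻¹) * u⁻¹⁻¹ = z := by group
      rwa [h2] at this
    have h1 : u⁻¹ * m * u⁻¹⁻¹ ∈ cj u⁻¹ M := conj_mem_cj hm
    have h2 := mem_CX.1 hn _ hK' _ h1
    calc n * m * n⁻¹ = (n * u * n⁻¹) * (n * (u⁻¹ * m * u⁻¹⁻¹)) * n⁻¹ * (n * u * n⁻¹)⁻¹ := by group
      _ = (w * u) * ((u⁻¹ * m * u⁻¹⁻¹) * n) * n⁻¹ * (w * u)⁻¹ := by rw [hwu, h2]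
      _ = w * m * w⁻¹ := by group

/-- **(2.4)** : `n` or `z n` centralises `R_t` -/
theorem TI.CX_or (hti : TI Om z t) (h : WM Om) (hn : n ∈ CX Om z) : n ∈ CX Om t ∨ z * n ∈ CX Om t := by
  obtain ⟨L, hL⟩ := hti.inT
  obtain ⟨L', hL', hne⟩ := hL.other h
  obtain ⟨x, hx, hxx⟩ := (hti.symm h).exists_as h hL
  obtain ⟨x', hx', hxx'⟩ := (hti.symm h).exists_as h hL'
  rcases hti.cases_L h hn hL hx with h1 | h1 | ⟨w, hwL, hw, hww, h1⟩
  · exact Or.inl (hti.CX_of_as h hn hL h1)
  · exact Or.inr (hti.CX_of_as h (z_mul_CX h hn) hL h1)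
  rcases hti.cases_L h hn hL' hx' with h2 | h2 | ⟨w', hwL', hw', hww', h2⟩
  · exact Or.inl (hti.CX_of_as h hn hL' h2)
  · exact Or.inr (hti.CX_of_as h (z_mul_CX h hn) hL' h2)
  exfalso
  -- `w⁻¹ w'` centralises all members over `z t`
  have hst : TI Om (z * t) t := (hti.mul_left h).symm h
  have hLt : As L t 1 := hL.as_z h
  have hLt' : As L' t 1 := hL'.as_z h
  have a1 : As L (z * t) w⁻¹ := by
    have h3 : As L (z * t) w := by
      have := hw.mul hLt
      rwa [mul_one] at this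
    rw [hL.inv_eq h hwL hww]
    refine ⟨mul_mem (hL.zmem h) hwL, fun k hk => ?_⟩
    rw [h3.2 k hk]
    have h4 : t * (w * k * w⁻¹) * t⁻¹ = w * k * w⁻¹ := by
      rw [← hL.comm_z h (mul_mem (mul_mem hwL hk) (inv_mem hwL)), mul_inv_cancel_right]
    rw [← h4]; group
  have a2 : As L' (z * t) w' := by
    have := hw'.mul hLt'
    rwa [mul_one] at this
  refine hst.xx_not_cent h hL hL' hne a1 a2 fun M hM => As.one_iff.2 fun m hm => ?_
  have h3 := (h1 M hM m hm).symm.trans (h2 M hM m hm)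
  calc w⁻¹ * w' * m = w⁻¹ * (w' * m * w'⁻¹) * w' := by group
    _ = w⁻¹ * (w * m * w⁻¹) * w' := by rw [h3]
    _ = m * (w⁻¹ * w') := by group

/-- `n ∈ X_z` commutes with the elements of `R_t` commuting with `z` -/
theorem TI.comm_of (hti : TI Om z t) (h : WM Om) (hn : n ∈ CX Om z) (hx : x ∈ RZ Om t) (hxz : z * x = x * z) :
    n * x = x * n := by
  rcases hti.CX_or h hn with h1 | h1
  · exact CX_comm hx h1
  · have h2 : z * n * x = x * (z * n) := CX_comm hx h1
    apply mul_left_cancel (a := z)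
    calc z * (n * x) = z * n * x := by group
      _ = x * (z * n) := h2
      _ = (x * z) * n := by group
      _ = (z * x) * n := by rw [hxz]
      _ = z * (x * n) := by group

/-- **(2.5)** -/
theorem TI.CX_const (hti : TI Om z t) (hti' : TI Om z t') (h : WM Om) (hn : n ∈ CX Om z) (hnt : n ∈ CX Om t) :
    n ∈ CX Om t' := by
  obtain ⟨L, hL⟩ := hti.inT
  obtain ⟨x, hx, hxx⟩ := (hti.symm h).exists_as h hL
  have hxz : x * z = z * x := hx.comm.symm
  -- `t'' = x t' x⁻¹`
  obtain ⟨t'', ht''⟩ : ∃ t'', t'' = x * t' * x⁻¹ := ⟨_, rfl⟩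
  have hti'' : TI Om z t'' := by
    have := hti'.conj h x
    rwa [hxz, mul_inv_cancel_right, ← ht''] at this
  obtain ⟨L'', hL''⟩ := hti''.inT
  obtain ⟨x'', hx'', hxx''⟩ := (hti''.symm h).exists_as h hL''
  have hxz'' : x'' * z = z * x'' := hx''.comm.symm
  obtain ⟨s, hs⟩ : ∃ s, s = x'' * t * x''⁻¹ := ⟨_, rfl⟩
  have htis : TI Om z s := by
    have := hti.conj h x''
    rwa [hxz'', mul_inv_cancel_right, ← hs] at this
  have hns : n ∈ CX Om s := by
    have h1 : n * x'' = x'' * n := hti''.comm_of h hn (hL''.le_RZ hx''.1) hxz''.symm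
    have h2 := (CX_conj h x'').2 hnt
    rwa [← h1, mul_inv_cancel_right, ← hs] at h2
  -- `s` and `t'` have the same action
  have hact : ∀ K, Mem Om z K → ∃ y, As K s y ∧ As K t' y := by
    intro K hK
    obtain ⟨y, hy, hyy⟩ := hti.exists_as h hK
    obtain ⟨y', hy', hyy'⟩ := hti'.exists_as h hK
    have hzy : z * y = y * z := (hK.comm_z h hy.1).symm
    have hzy' : z * y' = y' * z := (hK.comm_z h hy'.1).symm
    have hzz := hK.inZ.z2 h
    have e1 : ∀ g : G, z * (z * g) = g := fun g => by rw [← mul_assoc, hzz, one_mul]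
    obtain ⟨r1, r2, r3⟩ := (hti.symm h).rot h hL hK hx hy
    have hy'' : As K t'' (x * y' * x⁻¹) := by
      have := hy'.conj x
      rwa [r1, ← ht''] at this
    obtain ⟨y'', hy''e⟩ : ∃ y'', y'' = x * y' * x⁻¹ := ⟨_, rfl⟩
    rw [← hy''e] at hy''
    have hyy'' := hti''.sq_of_as h hK hy''
    obtain ⟨s1, s2, s3⟩ := (hti''.symm h).rot h hL'' hK hx'' hy''
    have hys : As K s (x'' * y * x''⁻¹) := by
      have := hy.conj x''
      rwa [s1, ← hs] at this
    -- `As` is insensitive to `z`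
    have hzas : ∀ {g w}, As K g w → As K g (z * w) := by
      intro g w hw
      refine ⟨mul_mem (hK.zmem h) hw.1, fun k hk => ?_⟩
      rw [hw.2 k hk]
      have h4 : z * (w * k * w⁻¹) * z⁻¹ = w * k * w⁻¹ := by
        rw [← hK.comm_z h (mul_mem (mul_mem hw.1 hk) (inv_mem hw.1)), mul_inv_cancel_right]
      rw [← h4]; group
    by_cases hc : y * y' = y' * y
    · -- same axis
      have h1 : y' = y ∨ y' = z * y := by
        rcases hK.of_comm h hy.1 hyy hy'.1 hc with h2 | h2 | h2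
        · rw [h2, one_mul] at hyy'
          exact absurd hyy'.symm (hK.inZ.z1 h)
        · rw [h2, hzz] at hyy'
          exact absurd hyy'.symm (hK.inZ.z1 h)
        · exact h2
      have h2 : y'' = y' := by
        rw [hy''e]
        rcases h1 with h1 | h1
        · rw [h1, r2, mul_inv_cancel_right]
        · rw [h1]
          calc x * (z * y) * x⁻¹ = (x * z) * y * x⁻¹ := by group
            _ = z * (x * y) * x⁻¹ := by rw [hxz]; group
            _ = z * (y * x) * x⁻¹ := by rw [r2]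
            _ = z * y := by group
      have h3 : x'' * y * x''⁻¹ = y := by
        rw [h2] at s2
        have h4 : x'' * y = y * x'' := by
          rcases h1 with h1 | h1
          · rw [← h1]; exact s2
          · have h5 : y = z * y' := by rw [h1, e1]
            rw [h5]
            calc x'' * (z * y') = (x'' * z) * y' := by group
              _ = (z * x'') * y' := by rw [hxz'']
              _ = z * (x'' * y') := by group
              _ = z * (y' * x'') := by rw [s2]
              _ = z * y' * x'' := by group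
        rw [h4, mul_inv_cancel_right]
      rw [h3] at hys
      rcases h1 with h1 | h1
      · exact ⟨y, hys, by rw [← h1]; exact hy'⟩
      · exact ⟨y', by rw [h1]; exact hzas hys, hy'⟩
    · -- different axes
      have hanti : y' * y = z * (y * y') := by
        have h1 := hK.anti h hy.1 hyy hy'.1 hyy' hc
        rw [mul_inv_eq_iff_eq_mul] at h1
        rw [h1, mul_assoc]
      have h1 : y'' = y * y' ∨ y'' = z * (y * y') := by
        rw [hy''e]
        exact r3 y' hy'.1 hyy' hc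
      have e2 : y * (y * y') = z * y' := by rw [← mul_assoc, hyy]
      have e3 : y * y' * y = y' := by
        rw [mul_assoc, hanti, ← mul_assoc, ← hzy, mul_assoc, e2, e1]
      have hc2 : y'' * y ≠ y * y'' := by
        intro h2
        apply hK.inZ.z1 h
        rcases h1 with h1 | h1
        · rw [h1, e3, e2] at h2
          exact (mul_eq_right.1 h2.symm)
        · rw [h1] at h2
          have h3 : z * (y * y') * y = z * y' := by rw [mul_assoc, e3]
          have h4 : y * (z * (y * y')) = y' := by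
            rw [← mul_assoc, ← hzy, mul_assoc, e2, e1]
          rw [h3, h4] at h2
          exact (mul_eq_right.1 h2)
      have h3 : y'' * y = y' ∨ y'' * y = z * y' := by
        rcases h1 with h1 | h1
        · left; rw [h1, e3]
        · right; rw [h1, mul_assoc, e3]
      have h4 : x'' * y * x''⁻¹ = y' ∨ x'' * y * x''⁻¹ = z * y' := by
        rcases s3 y hy.1 hyy hc2 with h5 | h5 <;> rcases h3 with h6 | h6
        · left; rw [h5, h6]
        · right; rw [h5, h6]
        · right; rw [h5, h6]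
        · left; rw [h5, h6, e1]
      rcases h4 with h4 | h4
      · exact ⟨y', by rw [h4] at hys; exact hys, hy'⟩
      · refine ⟨z * y', by rw [h4] at hys; exact hys, hzas hy'⟩
  rcases eq_or_of_as h hti.inZ (hti'.mem_RZ h) (htis.mem_RZ h) (fun K hK => by
    obtain ⟨y, h1, h2⟩ := hact K hK
    exact ⟨y, h2, h1⟩) with h1 | h1
  · rwa [h1] at hns
  · have h2 := htis.CX_mul h hn hns
    rwa [h1, zzt hti.inZ h] at h2

/-! ### `N⁰` -/

/-- `N⁰_z` -/
def N0 (Om : Set (Subgroup G)) (z : G) : Subgroup G := CX Om z ⊓ ⨅ (t : G) (_ : TI Om z t), CX Om t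

theorem mem_N0 : n ∈ N0 Om z ↔ n ∈ CX Om z ∧ ∀ t, TI Om z t → n ∈ CX Om t := by
  rw [N0, mem_inf, Subgroup.mem_iInf]
  refine and_congr_right fun _ => forall_congr' fun t => ?_
  rw [Subgroup.mem_iInf]

theorem TI.mem_N0 (hti : TI Om z t) (h : WM Om) : n ∈ N0 Om z ↔ n ∈ CX Om z ∧ n ∈ CX Om t := by
  rw [RI.mem_N0]
  exact ⟨fun h1 => ⟨h1.1, h1.2 t hti⟩, fun h1 => ⟨h1.1, fun t' ht' => hti.CX_const ht' h h1.1 h1.2⟩⟩

theorem TI.N0_or (hti : TI Om z t) (h : WM Om) (hn : n ∈ CX Om z) : n ∈ N0 Om z ∨ z * n ∈ N0 Om z := by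
  rcases hti.CX_or h hn with h1 | h1
  · exact Or.inl ((hti.mem_N0 h).2 ⟨hn, h1⟩)
  · exact Or.inr ((hti.mem_N0 h).2 ⟨z_mul_CX h hn, h1⟩)

/-- **(2.6)** -/
theorem TI.N0_eq (hti : TI Om z t) (h : WM Om) : N0 Om z = N0 Om t := by
  ext n
  rw [hti.mem_N0 h, (hti.symm h).mem_N0 h, and_comm]

theorem N0_conj (h : WM Om) (g : G) : N0 Om (g * z * g⁻¹) = cj g (N0 Om z) := by
  have key : ∀ (g z n : G), n ∈ N0 Om z → g * n * g⁻¹ ∈ N0 Om (g * z * g⁻¹) := by
    intro g z n hn
    rw [mem_N0] at hn ⊢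
    refine ⟨(CX_conj h g).2 hn.1, fun t ht => ?_⟩
    have h1 := ht.conj h g⁻¹
    have h2 : g⁻¹ * (g * z * g⁻¹) * g⁻¹⁻¹ = z := by group
    rw [h2] at h1
    have h3 := (CX_conj h g).2 (hn.2 _ h1)
    have h4 : g * (g⁻¹ * t * g⁻¹⁻¹) * g⁻¹ = t := by group
    rwa [h4] at h3
  ext n
  constructor
  · intro hn
    rw [mem_cj]
    have h1 := key g⁻¹ _ _ hn
    have h2 : g⁻¹ * (g * z * g⁻¹) * g⁻¹⁻¹ = z := by group
    rwa [h2, inv_inv] at h1
  · intro hn
    have h1 := key g _ _ (mem_cj.1 hn)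
    have h2 : g * (g⁻¹ * n * g) * g⁻¹ = n := by group
    rwa [h2] at h1

theorem N0_le (h : WM Om) (hz : InZ Om z) : N0 Om z ≤ centralizer {z} := by
  intro n hn
  rw [mem_centralizer_singleton_iff]
  exact CX_le hz h (mem_N0.1 hn).1

end Cfsg.Agent.Cit.Nil.RI
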