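import Cfsg.Agent.Cit.Nil.RI.Trans

/-!
# S1309, (6b), (C3), `r = 4`, type I pairs exist: the case `K ∩ X = ⟨z⟩`

`TrX Om X` : `X` is normal, `K ∩ X = ⟨z⟩` for the members.

* `TrX.pm`, `TrX.not_ti` : `(z, g z g⁻¹)`, `g ∈ X`, is not of type I (helper713's `RFour/FStar.lean`);
* **`TrX.cp`** : `Z ⊆ X`, `T1 Om`: if `g ∈ X` and `z ≠ g z g⁻¹` commute, then `(z, g z g⁻¹)` is a C-pair.
-/

set_option autoImplicit false
set_option linter.style.haveILetI false
set_option linter.unusedSectionVars false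

namespace Cfsg.Agent.Cit.Nil.RI

open Subgroup Cfsg Cfsg.Agent.Cit

open RG (WR CP Ov)

variable {G : Type*} [Group G]

/-- `K ∩ X = ⟨z⟩` -/
structure TrX (Om : Set (Subgroup G)) (X : Subgroup G) : Prop where
  w : WM Om
  nor : X.Normal
  inf : ∀ z K, Mem Om z K → ∀ y ∈ K, y ∈ X → y = 1 ∨ y = z

variable [Finite G] {Om : Set (Subgroup G)} {K L M X : Subgroup G} {a c d s t u v x y z g k : G}

namespace TrX

variable (r : TrX Om X)

include r

/-- elements of `X` normalising `K` are inner on `K` -/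
theorem pm (hK : Mem Om z K) (hd : d ∈ X) (hdK : cj d K = K) : ∀ k ∈ K, d * k * d⁻¹ = k ∨ d * k * d⁻¹ = z * k := by
  intro k hk
  have h0 : d * k * d⁻¹ ∈ K := by
    have := conj_mem_cj (g := d) hk
    rwa [hdK] at this
  have h2 : d * k * d⁻¹ * k⁻¹ ∈ X := by
    have h3 : d * k * d⁻¹ * k⁻¹ = d * (k * d⁻¹ * k⁻¹) := by group
    rw [h3]
    exact mul_mem hd (r.nor.conj_mem _ (inv_mem hd) k)
  rcases r.inf z K hK _ (mul_mem h0 (inv_mem hk)) h2 with h3 | h3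
  · exact Or.inl (mul_inv_eq_one.1 h3)
  · right; rwa [mul_inv_eq_iff_eq_mul] at h3

theorem not_ti (hg : g ∈ X) : ¬ TI Om z (g * z * g⁻¹) := by
  intro hti
  obtain ⟨K, hK⟩ := hti.inZ
  have hL : Mem Om (g * z * g⁻¹) (cj g K) := hK.cj r.w g
  obtain ⟨x, hx, hxx⟩ := (hti.symm r.w).exists_as r.w hL
  obtain ⟨y, hy, hyy⟩ := hti.exists_as r.w hK
  obtain ⟨h1, -, h2⟩ := (hti.symm r.w).rot r.w hL hK hx hy
  -- `x = g k g⁻¹`
  obtain ⟨k, hkdef⟩ : ∃ k, k = g⁻¹ * x * g := ⟨_, rfl⟩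
  have hk : k ∈ K := by rw [hkdef]; exact mem_cj.1 hx.1
  have hd : x * k⁻¹ ∈ X := by
    have h4 : x * k⁻¹ = (x * g⁻¹ * x⁻¹) * g := by rw [hkdef]; group
    rw [h4]
    exact mul_mem (r.nor.conj_mem _ (inv_mem hg) x) hg
  have hdK : cj (x * k⁻¹) K = K := by
    rw [cj_mul, mem_normalizer_iff_cj.1 (le_normalizer (inv_mem hk)), h1]
  obtain ⟨u, hu, huu, hyu⟩ := hK.exists_nc r.w hy.1 hyy
  have h3 := h2 u hu huu hyu
  have huk : k * u * k⁻¹ ∈ K := mul_mem (mul_mem hk hu) (inv_mem hk)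
  have h4 := r.pm hK hd hdK _ huk
  have h5 : x * k⁻¹ * (k * u * k⁻¹) * (x * k⁻¹)⁻¹ = x * u * x⁻¹ := by group
  rw [h5] at h4
  have hz2 := hK.inZ.z2 r.w
  have hz1 := hK.inZ.z1 r.w
  have e1 : ∀ g : G, z * (z * g) = g := fun g => by rw [← mul_assoc, hz2, one_mul]
  -- `x u x⁻¹ ∈ {u, z u}`
  have h6 : x * u * x⁻¹ = u ∨ x * u * x⁻¹ = z * u := by
    rcases hK.comm_or r.w hu hk with h7 | h7 <;> rw [h7] at h4
    · exact h4
    · rcases h4 with h4 | h4
      · exact Or.inr h4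
      · left; rw [h4, e1]
  have h8 : y = 1 ∨ y = z := by
    rcases h3 with h3 | h3 <;> rcases h6 with h6 | h6 <;> rw [h3] at h6
    · left; exact mul_eq_right.1 h6
    · right; exact mul_right_cancel h6
    · right
      have h7 := congrArg (z * ·) h6
      simp only [e1] at h7
      exact mul_right_cancel h7
    · left
      exact mul_eq_right.1 (mul_left_cancel h6)
  rcases h8 with h8 | h8
  · rw [h8, one_mul] at hyy; exact hz1 hyy.symm
  · rw [h8, hz2] at hyy; exact hz1 hyy.symm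

/-- **commuting `X`-conjugates are C-pairs** -/
theorem cp (w : T1 Om) (hZ : ∀ z, InZ Om z → z ∈ X) (hz : InZ Om z) (hg : g ∈ X) (hne : z ≠ g * z * g⁻¹)
    (hc : z * (g * z * g⁻¹) = (g * z * g⁻¹) * z) : CP Om z (g * z * g⁻¹) := by
  have h := w.w
  obtain ⟨u, hu⟩ : ∃ u, u = g * z * g⁻¹ := ⟨_, rfl⟩
  have huZ : InZ Om u := by rw [hu]; exact hz.conj h g
  have hnt : ¬ TI Om z u := by rw [hu]; exact r.not_ti hg
  rw [← hu] at hne hc ⊢
  have huX := hZ u huZ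
  rcases tri h hz huZ hne with h1 | h1 | ⟨-, h1⟩
  · exact h1
  · exact absurd h1 hnt
  rcases cases h w.ti hz huZ hc with hb | hb
  · exact hb
  exfalso
  have hmv : ∀ K, Mem Om z K → cj u K ≠ K := by
    intro K hK h2
    refine h1 K hK h2 (h.wr.inn_of_mod hK.1 h2 fun k hk => ?_)
    rw [hK.2]
    exact r.pm hK huX h2 k hk
  obtain ⟨t, ht⟩ := w.ti z hz
  have hut : u * t = t * u := w.tr hz huZ ht.inT hc ht.comm
  obtain ⟨c, d, hzc, huc, hdz, hdc, hdd, hud⟩ := exists_cd h ht (huZ.z2 h) hc.symm hut hmv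
  have hcc := hzc.inT.z2 h
  have huc' : TI Om u c := by
    rcases tri h huZ hzc.inT (fun h2 => hnt (by rw [h2]; exact hzc)) with h2 | h2 | ⟨h2, -⟩
    · exact absurd h2 (not_cp_blk h hzc.inT ((hb.symm h).trans hzc.blk))
    · exact h2
    · exfalso
      have h3 := key h hzc.inT (huZ.z2 h) huc h2 hdc hdd (Or.inr hud)
      rw [h3] at hud
      exact hzc.inT.z1 h (mul_eq_right.1 hud.symm)
  -- `d u d⁻¹ = u c`
  have hdu : d * u * d⁻¹ = u * c := by
    have h2 : u * d = c * d * u := by rw [← hud]; group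
    have h3 : d * u = c * (u * d) := by
      rw [h2]
      calc d * u = 1 * (d * u) := (one_mul _).symm
        _ = (c * c) * (d * u) := by rw [hcc]
        _ = _ := by group
    rw [h3, huc]; group
  have h2 := huc'.mul_right h
  rw [← hdu] at h2
  have hdz' : d * z = z * d := RZ_le_centralizer h hdz
  have hc' : d * g * d⁻¹ * g⁻¹ ∈ X := mul_mem (r.nor.conj_mem _ hg d) (inv_mem hg)
  apply r.not_ti (z := u) hc'
  have h5 : d * g * d⁻¹ * g⁻¹ * u * (d * g * d⁻¹ * g⁻¹)⁻¹ = d * u * d⁻¹ := by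
    have h6 : d⁻¹ * z * d = z := by rw [mul_assoc, ← hdz', inv_mul_cancel_left]
    calc d * g * d⁻¹ * g⁻¹ * u * (d * g * d⁻¹ * g⁻¹)⁻¹ = d * g * (d⁻¹ * z * d) * g⁻¹ * d⁻¹ := by rw [hu]; group
      _ = _ := by rw [h6, hu]; group
  rw [h5]
  exact h2

end TrX

end Cfsg.Agent.Cit.Nil.RI
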