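import Cfsg.Agent.Cit.Nil.RI.TSFour
import Cfsg.Agent.Cit.Nil.RG.CZ
import Cfsg.Agent.Cit.Nil.RG.Delta

/-!
# S1309, (6b), (C3), `r = 4`, type I pairs exist, `m ≥ 2`, NIL: the classes

`T1 Om` : `WM Om`, every `z ∈ Z` has a type I neighbour and a C-partner, NIL.

* `T1.fix` (6.1) : a normal 2-subgroup of `C(s)` centralises the C-partners of `s`;
* `T1.blk_comm` : blocks are commuting sets;
* `T1.tr` : commuting is transitive on `Z`;
* `T1.cp_of_moved` : `u x ≠ x u`, `u` commutes with `x u x⁻¹`: `(u, x u x⁻¹)` is a C-pair;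
* `T1.f1` (section 7), **`T1.cz`**.

-- uses: (H2), (H3), (PG), `r = 4`, NIL; no OneCls, no cores, no AN.
-/

set_option autoImplicit false
set_option linter.style.haveILetI false
set_option linter.unusedSectionVars false

namespace Cfsg.Agent.Cit.Nil.RI

open Subgroup Cfsg Cfsg.Agent.Cit

open RG (WR CP Ov InO NilP CZ)
open RFour (ComZ AZ)

variable {G : Type*} [Group G]

/-- see the head of the file -/
structure T1 (Om : Set (Subgroup G)) : Prop where
  w : WM Om
  ti : ∀ z, InZ Om z → ∃ t, TI Om z t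
  cp : ∀ z, InZ Om z → ∃ a, InZ Om a ∧ CP Om z a
  nil : NilP Om

variable [Finite G] {Om : Set (Subgroup G)} {K L M N P : Subgroup G} {a c d s t u v x y z g p k : G}

/-- a member and its conjugate by an element of a normalised 2-group: equal involutions or a C-pair -/
theorem cp_of_two (h : WM Om) (hK : Mem Om u K) (hP : IsPGroup 2 P) (hn : K ≤ normalizer (P : Set G)) (hp : p ∈ P)
    (hne : p * u * p⁻¹ ≠ u) : CP Om u (p * u * p⁻¹) := by
  have hT : IsPGroup 2 (K ⊔ P : Subgroup G) := (h.isPGroup hK.1).to_sup_of_normal_right' hP hn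
  have hpT : p ∈ K ⊔ P := mem_sup_right hp
  have hKp : cj p K ≤ K ⊔ P := by
    rintro _ ⟨k, hk, rfl⟩
    exact mul_mem (mul_mem hpT (mem_sup_left hk)) (inv_mem hpT)
  have hK' : Mem Om (p * u * p⁻¹) (cj p K) := hK.cj h p
  have hKK : K ≠ cj p K := by
    intro h1
    rw [← h1] at hK'
    exact hne (hK'.2.symm.trans hK.2)
  have h1 := h.wr.pg K hK.1 (cj p K) hK'.1 _ hT le_sup_left hKp hKK
  exact h.wr.CP_of_cen (K := K) hK (fun k hk => (h1 k hk _ (hK'.zmem h)).symm) hne.symm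

namespace T1

variable (w : T1 Om)

include w

/-- **(6.1)** -/
theorem fix (hs : InZ Om s) (hu : InZ Om u) (hsu : CP Om s u) (hP : IsPGroup 2 P)
    (hn : centralizer {s} ≤ normalizer (P : Set G)) (hp : p ∈ P) : p * u * p⁻¹ = u := by
  have h := w.w
  by_contra hne
  obtain ⟨K, hK⟩ := hu
  have hsz : s ∈ RZ Om s := z_mem_RZ hs h
  have hKs : ∀ {z : G} {L : Subgroup G}, CP Om s z → Mem Om z L → L ≤ centralizer {s} := fun hc hL l hl => by
    rw [mem_centralizer_singleton_iff]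
    exact (cp_RZ h hc hsz (hL.le_RZ hl)).symm
  have hKn : K ≤ normalizer (P : Set G) := (hKs hsu hK).trans hn
  have hcp := cp_of_two h hK hP hKn hp hne
  obtain ⟨v, hv⟩ := w.ti u hK.inZ
  have hsv : CP Om s v := (cp_of_ti h hs hsu.symm hv).symm
  have hvp : CP Om v (p * u * p⁻¹) := cp_of_ti h (hK.inZ.conj h p) hcp hv
  -- `k v k⁻¹ = v u`
  obtain ⟨x, hx, hxx⟩ := hv.exists_as h hK
  obtain ⟨k, hk, hkk, hxk⟩ := hK.exists_nc h hx.1 hxx
  have hkv : k * v * k⁻¹ = v * u := (hv.symm h).conj_z h hK hx hk hkk hxk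
  have hku : k * u = u * k := hK.comm_z h hk
  have huu := hK.inZ.z2 h
  have hvu : v * u = u * v := hv.comm.symm
  -- `k⁻¹ v k = v u`
  have hkv' : k⁻¹ * v * k = v * u := by
    have h1 : v = k⁻¹ * (v * u) * k := by rw [← hkv]; group
    have h2 : k⁻¹ * (v * u) * k = (k⁻¹ * v * k) * u := by
      calc k⁻¹ * (v * u) * k = k⁻¹ * v * (u * k) := by group
        _ = k⁻¹ * v * (k * u) := by rw [hku]
        _ = _ := by group
    rw [h2] at h1
    calc k⁻¹ * v * k = (k⁻¹ * v * k) * (u * u) := by rw [huu, mul_one]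
      _ = ((k⁻¹ * v * k) * u) * u := by group
      _ = v * u := by rw [← h1]
  -- `q = p k p⁻¹ k⁻¹ ∈ P`
  obtain ⟨q, hq⟩ : ∃ q, q = p * k * p⁻¹ * k⁻¹ := ⟨_, rfl⟩
  have hqP : q ∈ P := by
    have h1 : k * p⁻¹ * k⁻¹ ∈ P := (mem_normalizer_iff.1 (hKn hk) _).1 (inv_mem hp)
    rw [hq, show p * k * p⁻¹ * k⁻¹ = p * (k * p⁻¹ * k⁻¹) by group]
    exact mul_mem hp h1
  -- `p k p⁻¹` centralises `v` and `u`
  have hpk : p * k * p⁻¹ ∈ RZ Om (p * u * p⁻¹) := RZ_conj h p (hK.le_RZ hk)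
  have c1 : v * (p * k * p⁻¹) = p * k * p⁻¹ * v := cp_RZ h hvp (z_mem_RZ hv.inT h) hpk
  have c2 : u * (p * k * p⁻¹) = p * k * p⁻¹ * u := cp_RZ h hcp (z_mem_RZ hK.inZ h) hpk
  have hqv : q * v * q⁻¹ = v * u := by
    calc q * v * q⁻¹ = (p * k * p⁻¹) * (k⁻¹ * v * k) * (p * k * p⁻¹)⁻¹ := by rw [hq]; group
      _ = (p * k * p⁻¹) * (v * u) * (p * k * p⁻¹)⁻¹ := by rw [hkv']
      _ = ((p * k * p⁻¹ * v) * u) * (p * k * p⁻¹)⁻¹ := by group
      _ = (v * ((p * k * p⁻¹) * u)) * (p * k * p⁻¹)⁻¹ := by rw [← c1]; group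
      _ = v * u := by rw [← c2]; group
  obtain ⟨L, hL⟩ := hv.inT
  have hLn : L ≤ normalizer (P : Set G) := (hKs hsv hL).trans hn
  have hne2 : q * v * q⁻¹ ≠ v := by
    rw [hqv]
    exact fun h1 => hK.inZ.z1 h (mul_eq_left.1 h1)
  have h2 := cp_of_two h hL hP hLn hqP hne2
  rw [hqv, hvu] at h2
  exact (hv.mul_left h).not_cp h h2

/-- C-partners of the same element commute -/
theorem cc_comm (hs : InZ Om s) (hu : InZ Om u) (hv : InZ Om v) (hsu : CP Om s u) (hsv : CP Om s v) :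
    u * v = v * u := by
  obtain ⟨P, -, h2, h3, h4⟩ := w.nil s hs v hv hsv
  have h5 := w.fix hs hu hsu h3 h2 h4
  rw [mul_inv_eq_iff_eq_mul] at h5
  exact h5.symm

/-- blocks are commuting sets -/
theorem blk_comm (hz : InZ Om z) (hb : Blk Om z t) : z * t = t * z := by
  obtain ⟨a, ha, hc⟩ := w.cp z hz
  exact w.cc_comm ha hz (hb.inZ hz) hc.symm (cp_blk w.w ha hc hb).symm

/-- commuting is transitive on `Z` -/
theorem tr (hz : InZ Om z) (hs : InZ Om s) (ht : InZ Om t) (h1 : z * s = s * z) (h2 : z * t = t * z) :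
    s * t = t * s := by
  have h := w.w
  rcases cases h w.ti hz hs h1 with h3 | h3 <;> rcases cases h w.ti hz ht h2 with h4 | h4
  · exact w.cc_comm hz hs ht h3 h4
  · exact (cp_comm h ht hs (cp_blk h hs h3 h4)).symm
  · exact cp_comm h hs ht (cp_blk h ht h4 h3)
  · exact w.blk_comm hs ((h3.symm h).trans h4)

theorem comZ : ComZ (RG.ZZ Om) where
  sq _ hz := w.w.wr.zz_sq hz
  ne _ hz := w.w.wr.zz_ne hz
  conj _ hz g := w.w.wr.zz_cj hz g
  tr _ hz _ hs _ ht h1 h2 := w.tr hz hs ht h1 h2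

/-! ### Section 7 -/

/-- an element of `Z` moving `u` inside its class moves its block -/
theorem cp_of_moved (hu : InZ Om u) (hx : InZ Om x) (hc : u * (x * u * x⁻¹) = (x * u * x⁻¹) * u)
    (hne : u * x ≠ x * u) : CP Om u (x * u * x⁻¹) := by
  haveI : Fact (Nat.Prime 2) := ⟨Nat.prime_two⟩
  have h := w.w
  rcases cases h w.ti hu (hu.conj h x) hc with h1 | h1
  · exact h1
  exfalso
  -- the stabiliser of the block
  let H : Subgroup G :=
    { carrier := {g | Blk Om u (g * u * g⁻¹)}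
      mul_mem' := by
        intro g g' (h2 : Blk Om u (g * u * g⁻¹)) (h3 : Blk Om u (g' * u * g'⁻¹))
        have h4 := h3.conj h g
        have h5 : g * (g' * u * g'⁻¹) * g⁻¹ = g * g' * u * (g * g')⁻¹ := by group
        rw [h5] at h4
        exact h2.trans h4
      one_mem' := by
        change Blk Om u (1 * u * 1⁻¹)
        rw [one_mul, inv_one, mul_one]
        exact Blk.refl u
      inv_mem' := by
        intro g (h2 : Blk Om u (g * u * g⁻¹))
        have h4 := h2.conj h g⁻¹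
        have h5 : g⁻¹ * (g * u * g⁻¹) * g⁻¹⁻¹ = u := by group
        rw [h5] at h4
        exact h4.symm h }
  have hxH : x ∈ H := h1
  obtain ⟨K, hK⟩ := hu
  have hKH : K ≤ H := by
    intro k hk
    change Blk Om u (k * u * k⁻¹)
    rw [hK.comm_z h hk, mul_inv_cancel_right]
    exact Blk.refl u
  -- Sylow
  have hx2 : IsPGroup 2 (zpowers x) := by
    refine IsPGroup.of_card (n := 1) ?_
    rw [Nat.card_zpowers, pow_one]
    exact hx.orderOf h
  have hxle : zpowers x ≤ H := by rwa [zpowers_le]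
  obtain ⟨T, hT⟩ := (hx2.comap_subtype (K := H)).exists_le_sylow
  obtain ⟨m, hm⟩ := exists_le_cj T ((h.isPGroup hK.1).comap_subtype (K := H))
  have hT2 : IsPGroup 2 ((T : Subgroup H).map H.subtype) := T.isPGroup'.map _
  have hxT : x ∈ (T : Subgroup H).map H.subtype :=
    ⟨⟨x, hxH⟩, hT (mem_subgroupOf.2 (mem_zpowers x)), rfl⟩
  -- the member `K^m⁻¹ ≤ T`
  have hKm : cj (m : G)⁻¹ K ≤ (T : Subgroup H).map H.subtype := by
    intro y hy
    rw [mem_cj, inv_inv] at hy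
    have h2 : (⟨(m : G) * y * (m : G)⁻¹, hKH hy⟩ : H) ∈ cj m (T : Subgroup H) := hm (mem_subgroupOf.2 hy)
    rw [mem_cj] at h2
    have h3 := mem_map_of_mem H.subtype h2
    have h4 : H.subtype (m⁻¹ * (⟨(m : G) * y * (m : G)⁻¹, hKH hy⟩ : H) * m) = y := by
      change (m : G)⁻¹ * ((m : G) * y * (m : G)⁻¹) * (m : G) = y
      group
    rwa [h4] at h3
  obtain ⟨v, hv⟩ : ∃ v, v = (m : G)⁻¹ * u * (m : G)⁻¹⁻¹ := ⟨_, rfl⟩
  have hKv : Mem Om v (cj (m : G)⁻¹ K) := by rw [hv]; exact hK.cj h _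
  have hbv : Blk Om u v := by rw [hv]; exact H.inv_mem m.2
  have hvu : v * u = u * v := (w.blk_comm hK.inZ hbv).symm
  -- `x` commutes with `v`
  have hxv : v * x = x * v := by
    by_contra hne2
    have h2 : x * v * x⁻¹ ≠ v := fun h3 => hne2 (mul_inv_eq_iff_eq_mul.1 h3).symm
    have h3 := cp_of_two h hKv hT2 (hKm.trans le_normalizer) hxT h2
    refine not_cp_blk h (hKv.inZ.conj h x) ?_ h3
    exact (hbv.symm h).trans (h1.trans (hbv.conj h x))
  exact hne (w.tr hKv.inZ hK.inZ hx hvu hxv)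

/-- **section 7** -/
theorem f1 (hx : InZ Om x) (hu : InZ Om u) (hc : u * (x * u * x⁻¹) = (x * u * x⁻¹) * u) : x * u = u * x := by
  by_contra hne
  have h := w.w
  have hxx := hx.z2 h
  have huu := hu.z2 h
  have hxi := hx.inv h
  have hui := hu.inv h
  have hne' : u * x ≠ x * u := fun h1 => hne h1.symm
  obtain ⟨x', hx'⟩ := w.ti x hx
  -- conjugation of `u` by an element of `Z` commuting with `x`
  have key : ∀ y, InZ Om y → x * y = y * x → CP Om u (y * u * y⁻¹) := by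
    intro y hy hxy
    have hyy := hy.z2 h
    have hyi := hy.inv h
    -- `u x u⁻¹` commutes with `x`
    have e1 : x * (u * x * u⁻¹) = (u * x * u⁻¹) * x := by
      rw [hui]
      rw [hxi] at hc
      calc x * (u * x * u) = (x * u * x) * u := by group
        _ = u * (x * u * x) := hc.symm
        _ = (u * x * u) * x := by group
    -- `u y u⁻¹` commutes with `u x u⁻¹`
    have e2 : (u * x * u⁻¹) * (u * y * u⁻¹) = (u * y * u⁻¹) * (u * x * u⁻¹) := by
      calc (u * x * u⁻¹) * (u * y * u⁻¹) = u * (x * y) * u⁻¹ := by group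
        _ = u * (y * x) * u⁻¹ := by rw [hxy]
        _ = _ := by group
    have e3 : (u * x * u⁻¹) * y = y * (u * x * u⁻¹) := w.tr hx (hx.conj h u) hy e1 hxy
    have e4 : (u * y * u⁻¹) * y = y * (u * y * u⁻¹) := w.tr (hx.conj h u) (hy.conj h u) hy e2 e3
    have e5 : u * (y * u * y⁻¹) = (y * u * y⁻¹) * u := by
      rw [hyi]
      rw [hui] at e4
      calc u * (y * u * y) = (u * y * u) * y := by group
        _ = y * (u * y * u) := e4
        _ = (y * u * y) * u := by group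
    refine w.cp_of_moved hu hy e5 fun h1 => hne' ?_
    exact w.tr hy hu hx h1.symm hxy.symm
  have k1 := key x hx rfl
  have k2 := key x' hx'.inT hx'.comm
  have hx'' := hx'.mul_right h
  have k3 := key (x * x') hx''.inT hx''.comm
  -- `x'` commutes with `e = u (x u x⁻¹)`
  have e1 : x * (u * x * u⁻¹) = (u * x * u⁻¹) * x := by
    rw [hui]
    rw [hxi] at hc
    calc x * (u * x * u) = (x * u * x) * u := by group
      _ = u * (x * u * x) := hc.symm
      _ = (u * x * u) * x := by group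
  have e2 : (u * x * u⁻¹) * x' = x' * (u * x * u⁻¹) := w.tr hx (hx.conj h u) hx'.inT e1 hx'.comm
  have e3 : u * (x * u * x⁻¹) = (u * x * u⁻¹) * x := by rw [hui, hxi]; group
  have e4 : x' * (u * (x * u * x⁻¹)) * x'⁻¹ = u * (x * u * x⁻¹) := by
    rw [e3]
    calc x' * (u * x * u⁻¹ * x) * x'⁻¹ = (x' * (u * x * u⁻¹)) * x * x'⁻¹ := by group
      _ = (u * x * u⁻¹) * (x' * x) * x'⁻¹ := by rw [← e2]; group
      _ = (u * x * u⁻¹) * (x * x') * x'⁻¹ := by rw [hx'.comm]
      _ = _ := by group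
  have e5 : (x' * u * x'⁻¹) * ((x * x') * u * (x * x')⁻¹) = u * (x * u * x⁻¹) := by
    rw [← e4, hx'.comm]; group
  obtain ⟨v, hv⟩ := w.ti u hu
  obtain ⟨L, hL⟩ := hv.inT
  have hu' := z_mem_RZ (hu.conj h x) h
  refine (hv.symm h).nc hL fun l hl => ?_
  have c1 : l * (x * u * x⁻¹) = (x * u * x⁻¹) * l :=
    cp_RZ h (cp_of_ti h (hu.conj h x) k1 hv) (hL.le_RZ hl) (z_mem_RZ (hu.conj h x) h)
  have c2 : l * (x' * u * x'⁻¹) = (x' * u * x'⁻¹) * l :=
    cp_RZ h (cp_of_ti h (hu.conj h x') k2 hv) (hL.le_RZ hl) (z_mem_RZ (hu.conj h x') h)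
  have c3 : l * ((x * x') * u * (x * x')⁻¹) = ((x * x') * u * (x * x')⁻¹) * l :=
    cp_RZ h (cp_of_ti h (hu.conj h _) k3 hv) (hL.le_RZ hl) (z_mem_RZ (hu.conj h _) h)
  have c4 : l * (u * (x * u * x⁻¹)) = (u * (x * u * x⁻¹)) * l := by
    rw [← e5, ← mul_assoc, c2, mul_assoc, c3, ← mul_assoc]
  have c5 : (u * l) * (x * u * x⁻¹) = (l * u) * (x * u * x⁻¹) := by
    calc (u * l) * (x * u * x⁻¹) = u * (l * (x * u * x⁻¹)) := by group
      _ = (u * (x * u * x⁻¹)) * l := by rw [c1]; group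
      _ = l * (u * (x * u * x⁻¹)) := c4.symm
      _ = _ := by group
  exact mul_right_cancel c5

/-- commuting is transitive, (F1) -/
theorem cz : CZ (RG.ZZ Om) where
  toComZ := w.comZ
  f1 _ hx _ hu hc := w.f1 hx hu hc

end T1

end Cfsg.Agent.Cit.Nil.RI
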