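import Cfsg.Agent.Cit.Nil.RI.Def

/-!
# `r = 4`, any `m`: type I pairs (helper449's `RFour/TypeI.lean` without `one`)

* `As K t y` : `y ∈ K` and `t` acts on `K` as `y`;
* `TI.exists_as` : a type I neighbour `t` of `z` acts on `K` (over `z`) as some `y` with `y² = z`;
* `TI.exists_q` : coordinates of `K` with `y = a 0`;
* `TI.rot` : the quarter turn: `y ∈ K` acts on `L` (over `t`) as an automorphism of order 4 about `x`;
* `TI.conj_z`, `TI.conj_y`, `TI.mul_right`, `TI.mul_left`;
* `TI.hh` : (H);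
* `TI.mem_RZ` : `t ∈ R_z`;
* `RZ_center`, `eq_or_of_as`;
* `TI.xx_mem`, `TI.xx_not_cent` : (1.5).
-/

set_option autoImplicit false
set_option linter.style.haveILetI false
set_option linter.unusedSectionVars false

namespace Cfsg.Agent.Cit.Nil.RI

open Subgroup Cfsg Cfsg.Agent.Cit

open RTwo (Q3 Act i11 i12 i21 i22 i_ne1 i_ne2 i_ne12 i_cases i_cases3)

variable {G : Type*} [Group G]

/-- `t` acts on `K` as `y ∈ K` -/
def As (K : Subgroup G) (t y : G) : Prop := y ∈ K ∧ ∀ k ∈ K, t * k * t⁻¹ = y * k * y⁻¹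

namespace As

variable {K L : Subgroup G} {s t y x g : G}

theorem self (hy : y ∈ K) : As K y y := ⟨hy, fun _ _ => rfl⟩

theorem one_iff : As K t 1 ↔ ∀ k ∈ K, t * k = k * t := by
  constructor
  · intro h k hk
    have := h.2 k hk
    rw [one_mul, inv_one, mul_one, mul_inv_eq_iff_eq_mul] at this
    exact this
  · intro h
    refine ⟨one_mem _, fun k hk => ?_⟩
    rw [h k hk, mul_inv_cancel_right, one_mul, inv_one, mul_one]

theorem mul (h : As K s x) (h' : As K t y) : As K (s * t) (x * y) := by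
  refine ⟨mul_mem h.1 h'.1, fun k hk => ?_⟩
  have h1 : t * k * t⁻¹ ∈ K := by
    rw [h'.2 k hk]; exact mul_mem (mul_mem h'.1 hk) (inv_mem h'.1)
  calc s * t * k * (s * t)⁻¹ = s * (t * k * t⁻¹) * s⁻¹ := by group
    _ = x * (t * k * t⁻¹) * x⁻¹ := h.2 _ h1
    _ = x * (y * k * y⁻¹) * x⁻¹ := by rw [h'.2 k hk]
    _ = _ := by group

theorem inv (h : As K t y) : As K t⁻¹ y⁻¹ := by
  refine ⟨inv_mem h.1, fun k hk => ?_⟩
  have h1 : y⁻¹ * k * y ∈ K := mul_mem (mul_mem (inv_mem h.1) hk) h.1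
  have h2 := h.2 _ h1
  have h3 : y * (y⁻¹ * k * y) * y⁻¹ = k := by group
  rw [h3] at h2
  calc t⁻¹ * k * t⁻¹⁻¹ = t⁻¹ * (t * (y⁻¹ * k * y) * t⁻¹) * t⁻¹⁻¹ := by rw [h2]
    _ = _ := by group

theorem conj (h : As K t y) (g : G) : As (cj g K) (g * t * g⁻¹) (g * y * g⁻¹) := by
  refine ⟨conj_mem_cj h.1, fun k hk => ?_⟩
  rw [mem_cj] at hk
  have h1 := h.2 _ hk
  calc g * t * g⁻¹ * k * (g * t * g⁻¹)⁻¹ = g * (t * (g⁻¹ * k * g) * t⁻¹) * g⁻¹ := by group
    _ = g * (y * (g⁻¹ * k * g) * y⁻¹) * g⁻¹ := by rw [h1]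
    _ = _ := by group

theorem conj_comm (h : As K t y) (hg : g * t = t * g) : As (cj g K) t (g * y * g⁻¹) := by
  have := h.conj g
  rwa [hg, mul_inv_cancel_right] at this

/-- `t` acts as `y`, so it commutes with `y` -/
theorem comm (h : As K t y) : t * y = y * t := by
  have h1 := h.2 y h.1
  rw [mul_inv_cancel_right, mul_inv_eq_iff_eq_mul] at h1
  exact h1

theorem cj_eq (h : As K t y) : Cit.cj t K = K := by
  refine le_antisymm ?_ ?_
  · rintro _ ⟨k, hk, rfl⟩
    change t * k * t⁻¹ ∈ K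
    rw [h.2 k hk]
    exact mul_mem (mul_mem h.1 hk) (inv_mem h.1)
  · intro k hk
    rw [mem_cj]
    have h1 := h.inv.2 k hk
    rw [inv_inv] at h1
    rw [h1]
    exact mul_mem (mul_mem (inv_mem h.1) hk) (inv_mem (inv_mem h.1))

end As

section

variable [Finite G] {Om : Set (Subgroup G)} {K K' L L' M : Subgroup G} {z t g n x x' y y' u s : G} {a b c d : Fin 3 → G}

theorem Mem.as_z (hK : Mem Om z K) (h : WM Om) : As K z 1 :=
  As.one_iff.2 fun _ hk => (hK.comm_z h hk).symm

theorem Mem.as_one (hK : Mem Om z K) (hL : Mem Om z L) (h : WM Om) (hne : K ≠ L) (hx : x ∈ L) : As K x 1 :=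
  As.one_iff.2 fun _ hk => (hK.comm hL h hne hk hx).symm

theorem Mem.as_center (hK : Mem Om z K) (h : WM Om) (h1 : As K t y) (h2 : As K t 1) : y = 1 ∨ y = z := by
  obtain ⟨a, qa⟩ := h.exists_q3 hK
  have h3 : ∀ k ∈ K, y * k = k * y := by
    intro k hk
    have := h1.2 k hk
    rw [As.one_iff.1 h2 k hk, mul_inv_cancel_right, eq_mul_inv_iff_mul_eq] at this
    exact this.symm
  exact qa.center h1.1 (h3 _ (qa.mem 0)) (h3 _ (qa.mem 1))

theorem Mem.as_unique (hK : Mem Om z K) (h : WM Om) (h1 : As K t y) (h2 : As K t y') : y' = y ∨ y' = z * y := by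
  have h3 := h2.mul h1.inv
  rw [mul_inv_cancel] at h3
  have h4 : As K (1 : G) 1 := As.self (one_mem _)
  rcases hK.as_center h h3 h4 with h5 | h5
  · left; exact mul_inv_eq_one.1 h5
  · right; rw [mul_inv_eq_iff_eq_mul] at h5; exact h5

/-- `y² = z` excludes the trivial action -/
theorem Mem.not_as_one (hK : Mem Om z K) (h : WM Om) (h1 : As K t y) (hy : y * y = z) : ¬ As K t 1 := by
  intro h2
  have hz1 := hK.inZ.z1 h
  rcases hK.as_center h h1 h2 with h3 | h3
  · rw [h3, one_mul] at hy; exact hz1 hy.symm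
  · rw [h3, hK.inZ.z2 h] at hy; exact hz1 hy.symm

theorem Mem.sq_cases (hK : Mem Om z K) (h : WM Om) (hx : x ∈ K) : x = 1 ∨ x = z ∨ x * x = z := by
  obtain ⟨a, qa⟩ := h.exists_q3 hK
  rcases qa.cov x hx with h1 | h1 | ⟨i, h1⟩
  · exact Or.inl h1
  · exact Or.inr (Or.inl h1)
  · right; right
    rcases h1 with rfl | rfl
    · exact qa.sq i
    · calc z * a i * (z * a i) = z * (a i * z) * a i := by group
        _ = z * (z * a i) * a i := by rw [qa.zc]
        _ = z := by rw [qa.zzx, qa.sq]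

theorem Mem.inv_eq (hK : Mem Om z K) (h : WM Om) (hx : x ∈ K) (hxx : x * x = z) : x⁻¹ = z * x := by
  apply inv_eq_of_mul_eq_one_right
  rw [← mul_assoc, hK.comm_z h hx, mul_assoc, hxx, hK.inZ.z2 h]

theorem TI.exists_as (hti : TI Om z t) (h : WM Om) (hK : Mem Om z K) : ∃ y, As K t y ∧ y * y = z := by
  obtain ⟨a, qa⟩ := h.exists_q3 hK
  rcases qa.inner_cases (hti.inn K hK) with h1 | ⟨j, h1⟩
  · exfalso
    exact hti.nc hK fun k hk => by
      have := h1 k hk
      rwa [mul_inv_eq_iff_eq_mul] at this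
  · exact ⟨a j, ⟨qa.mem j, h1⟩, qa.sq j⟩

/-- the action of a type I neighbour is nontrivial -/
theorem TI.sq_of_as (hti : TI Om z t) (h : WM Om) (hK : Mem Om z K) (hy : As K t y) : y * y = z := by
  obtain ⟨y', h1, h2⟩ := hti.exists_as h hK
  rcases hK.as_unique h h1 hy with rfl | rfl
  · exact h2
  · calc z * y' * (z * y') = z * (y' * z) * y' := by group
      _ = z * (z * y') * y' := by rw [hK.comm_z h h1.1]
      _ = (z * z) * (y' * y') := by group
      _ = z := by rw [hK.inZ.z2 h, h2, one_mul]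

/-- coordinates of `K` starting with a given element -/
theorem Mem.exists_q (hK : Mem Om z K) (h : WM Om) (hy : y ∈ K) (hyy : y * y = z) :
    ∃ a, Q3 K z a ∧ a 0 = y := by
  obtain ⟨a, qa⟩ := h.exists_q3 hK
  obtain ⟨i, hi⟩ := qa.of_sq hy hyy
  have h1 := qa.rot i
  have h2 : a (0 + i) = a i := by rw [zero_add]
  rcases hi with hi | hi
  · exact ⟨_, h1, by rw [hi]; exact h2⟩
  · refine ⟨_, h1.flip, ?_⟩
    simp only [Fin.isValue, zero_ne_one, if_false]
    rw [hi, h2]

/-- coordinates starting with two given elements -/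
theorem Mem.exists_q2 (hK : Mem Om z K) (h : WM Om) (hy : y ∈ K) (hyy : y * y = z) (hu : u ∈ K) (huu : u * u = z)
    (hne : y * u ≠ u * y) : ∃ a, Q3 K z a ∧ a 0 = y ∧ a 1 = u := by
  obtain ⟨a, qa⟩ := h.exists_q3 hK
  exact ⟨_, qa.of_pair hy hu hyy huu hne, rfl, rfl⟩

/-- an element of `K` commuting with `y` -/
theorem Mem.of_comm (hK : Mem Om z K) (h : WM Om) (hy : y ∈ K) (hyy : y * y = z) (hu : u ∈ K)
    (hc : y * u = u * y) : u = 1 ∨ u = z ∨ u = y ∨ u = z * y := by
  obtain ⟨a, qa, rfl⟩ := hK.exists_q h hy hyy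
  rcases qa.cov u hu with h1 | h1 | ⟨i, h1⟩
  · exact Or.inl h1
  · exact Or.inr (Or.inl h1)
  by_cases hi : i = 0
  · subst hi; exact Or.inr (Or.inr h1)
  exfalso
  have h2 := qa.anti (Ne.symm hi)
  rcases h1 with rfl | rfl
  · rw [hc, mul_assoc] at h2
    exact qa.zne _ h2.symm
  · have h3 : a 0 * (z * a i) = z * (a 0 * a i) := by
      rw [← mul_assoc, ← qa.zc, mul_assoc]
    rw [h3, mul_assoc z (a i)] at hc
    have h4 := mul_left_cancel hc
    rw [h4, mul_assoc] at h2
    exact qa.zne _ h2.symm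

/-- an element of order 4 not commuting with `y` inverts it -/
theorem Mem.anti (hK : Mem Om z K) (h : WM Om) (hy : y ∈ K) (hyy : y * y = z) (hu : u ∈ K) (huu : u * u = z)
    (hne : y * u ≠ u * y) : u * y * u⁻¹ = z * y := by
  obtain ⟨a, qa, rfl, rfl⟩ := hK.exists_q2 h hy hyy hu huu hne
  exact qa.conj_ne (by decide)

theorem Mem.comm_or (hK : Mem Om z K) (h : WM Om) (hy : y ∈ K) (hu : u ∈ K) : u * y * u⁻¹ = y ∨ u * y * u⁻¹ = z * y := by
  rcases hK.sq_cases h hy with h1 | h1 | h1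
  · left; rw [h1]; group
  · left; rw [h1, hK.comm_z h hu, mul_inv_cancel_right]
  rcases hK.sq_cases h hu with h2 | h2 | h2
  · left; rw [h2]; group
  · left; rw [h2, ← hK.comm_z h hy, mul_inv_cancel_right]
  by_cases hc : y * u = u * y
  · left; rw [← hc, mul_inv_cancel_right]
  · right; exact hK.anti h hy h1 hu h2 hc

/-! ### The quarter turn -/

/-- `y ∈ K` (the action of `t`) acts on `L` as a quarter turn about `x` (the action of `z`) -/
theorem TI.rot (hti : TI Om z t) (h : WM Om) (hK : Mem Om z K) (hL : Mem Om t L) (hy : As K t y) (hx : As L z x) :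
    cj y L = L ∧ y * x = x * y ∧ ∀ u ∈ L, u * u = t → x * u ≠ u * x →
      y * u * y⁻¹ = x * u ∨ y * u * y⁻¹ = t * (x * u) := by
  have hyy := hti.sq_of_as h hK hy
  have hxx := (hti.symm h).sq_of_as h hL hx
  have h1 := h.h3 hK hL hy.1 hyy hy.comm.symm
  obtain ⟨c, qc, hc0⟩ := hL.exists_q h hx.1 hxx
  have key : ∀ c : Fin 3 → G, Q3 L t c → c 0 = x → y * c 0 * y⁻¹ = c 0 ∧ (y * c 1 * y⁻¹ = c 2 ∨ y * c 1 * y⁻¹ = t * c 2) := by
    intro c qc hc0
    refine qc.quarter (fun k hk => ?_) fun k hk => ?_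
    · have := conj_mem_cj (g := y) hk
      rwa [h1] at this
    · rw [hc0, ← hx.2 k hk]
      have : y * (y * k * y⁻¹) * y⁻¹ = (y * y) * k * (y * y)⁻¹ := by group
      rw [this, hyy]
  refine ⟨h1, ?_, fun u hu huu hxu => ?_⟩
  · have h2 := (key c qc hc0).1
    rw [hc0, mul_inv_eq_iff_eq_mul] at h2
    exact h2
  · obtain ⟨c, qc, hc0, hc1⟩ := hL.exists_q2 h hx.1 hxx hu huu hxu
    have h2 := (key c qc hc0).2
    have h3 : c 2 = x * u := by
      have := qc.mul 0
      rw [hc0] at this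
      simp only [zero_add] at this
      rw [hc1] at this
      exact this.symm
    rw [hc1, h3] at h2
    exact h2

theorem TI.yx (hti : TI Om z t) (h : WM Om) (hK : Mem Om z K) (hL : Mem Om t L) (hy : As K t y) (hx : As L z x) :
    y * x = x * y := (hti.rot h hK hL hy hx).2.1

/-- an element of `L` not commuting with `x` -/
theorem Mem.exists_nc (hL : Mem Om t L) (h : WM Om) (hx : x ∈ L) (hxx : x * x = t) :
    ∃ u ∈ L, u * u = t ∧ x * u ≠ u * x := by
  obtain ⟨c, qc, rfl⟩ := hL.exists_q h hx hxx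
  refine ⟨c 1, qc.mem 1, qc.sq 1, fun h1 => ?_⟩
  have h2 := qc.anti (i_ne1 0)
  simp only [zero_add] at h2
  rw [h1, mul_assoc] at h2
  exact qc.zne _ h2.symm

/-- `u z u⁻¹ = z t` -/
theorem As.conj_z (hL : Mem Om t L) (h : WM Om) (hx : As L z x) (hxx : x * x = t) (hu : u ∈ L)
    (huu : u * u = t) (hxu : x * u ≠ u * x) : u * z * u⁻¹ = z * t := by
  have h1 := hx.2 u hu
  have h2 : x * u * x⁻¹ = t * u := hL.anti h hu huu hx.1 hxx (fun h3 => hxu h3.symm)
  rw [h2, mul_inv_eq_iff_eq_mul] at h1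
  -- `z u = t u z`
  have h3 : t * u = u * t := (hL.comm_z h hu).symm
  have htt := hL.inZ.z2 h
  have h4 : u * z = z * t * u := by
    calc u * z = (t * t) * u * z := by rw [htt, one_mul]
      _ = t * (t * u * z) := by group
      _ = t * (z * u) := by rw [h1]
      _ = t * (z * u) := rfl
      _ = (t * z) * u := by group
      _ = z * t * u := by
        have h5 : t * z = z * t := by
          -- `z` commutes with `t = u²`
          have h6 : z * (u * u) = (u * u) * z := by
            calc z * (u * u) = (z * u) * u := by group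
              _ = t * u * z * u := by rw [h1]
              _ = t * u * (z * u) := by group
              _ = t * u * (t * u * z) := by rw [h1]
              _ = t * (u * t) * u * z := by group
              _ = t * (t * u) * u * z := by rw [h3]
              _ = (t * t) * (u * u) * z := by group
              _ = (u * u) * z := by rw [htt, one_mul]
          rw [huu] at h6
          exact h6.symm
        rw [h5]
  rw [h4, mul_inv_cancel_right]

theorem TI.conj_z (hti : TI Om z t) (h : WM Om) (hL : Mem Om t L) (hx : As L z x) (hu : u ∈ L)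
    (huu : u * u = t) (hxu : x * u ≠ u * x) : u * z * u⁻¹ = z * t :=
  As.conj_z hL h hx ((hti.symm h).sq_of_as h hL hx) hu huu hxu

/-- `u y u⁻¹ = x^{±1} y` -/
theorem TI.conj_y (hti : TI Om z t) (h : WM Om) (hK : Mem Om z K) (hL : Mem Om t L) (hy : As K t y) (hx : As L z x)
    (hu : u ∈ L) (huu : u * u = t) (hxu : x * u ≠ u * x) :
    u * y * u⁻¹ = x * y ∨ u * y * u⁻¹ = t * (x * y) := by
  obtain ⟨-, h1, h2⟩ := hti.rot h hK hL hy hx
  have hxx := (hti.symm h).sq_of_as h hL hx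
  have ht : t * u = u * t := (hL.comm_z h hu).symm
  have htx : t * x = x * t := (hL.comm_z h hx.1).symm
  have htt := hL.inZ.z2 h
  have h3 : x * u * x⁻¹ = t * u := hL.anti h hu huu hx.1 hxx (fun h3 => hxu h3.symm)
  have h4 : x * u = t * u * x := by rwa [mul_inv_eq_iff_eq_mul] at h3
  have h5 : t * (t * (x * y)) = x * y := by rw [← mul_assoc, htt, one_mul]
  have hxu' : u * x = t * (x * u) := by
    rw [h4]
    calc u * x = (t * t) * u * x := by rw [htt, one_mul]
      _ = _ := by group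
  rcases h2 u hu huu hxu with h6 | h6
  · -- `y u = x u y`
    right
    rw [mul_inv_eq_iff_eq_mul] at h6 ⊢
    calc u * y = (t * t) * (u * y) := by rw [htt, one_mul]
      _ = t * (t * (x * x)⁻¹) * (x * x) * (u * y) := by group
      _ = t * (t * t⁻¹) * (x * x) * (u * y) := by rw [hxx]
      _ = t * x * (x * u * y) := by group
      _ = t * x * (y * u) := by rw [h6]
      _ = t * (x * y) * u := by group
  · left
    rw [mul_inv_eq_iff_eq_mul] at h6 ⊢
    calc u * y = (t * t) * (u * y) := by rw [htt, one_mul]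
      _ = (x * x) * t * (u * y) := by rw [hxx]
      _ = x * (x * t) * (u * y) := by group
      _ = x * (t * x) * (u * y) := by rw [htx]
      _ = x * (t * (x * u) * y) := by group
      _ = x * (y * u) := by rw [h6]
      _ = x * y * u := by group

/-! ### The third involution -/

theorem TI.mul_right (hti : TI Om z t) (h : WM Om) : TI Om z (z * t) := by
  obtain ⟨K, hK⟩ := hti.inZ
  obtain ⟨y, hy, hyy⟩ := hti.exists_as h hK
  obtain ⟨v, hv, hvv, hyv⟩ := hK.exists_nc h hy.1 hyy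
  have h1 := (hti.symm h).conj_z h hK hy hv hvv hyv
  have h2 := hti.conj h v
  rw [h1, hK.comm_z h hv, mul_inv_cancel_right, ← hti.comm] at h2
  exact h2

theorem TI.mul_left (hti : TI Om z t) (h : WM Om) : TI Om t (z * t) := by
  have := (hti.symm h).mul_right h
  rwa [← hti.comm] at this

theorem TI.inZ_mul (hti : TI Om z t) (h : WM Om) : InZ Om (z * t) := (hti.mul_right h).inT

/-! ### (H) -/

/-- `V = {1, z, t, zt}` -/
def VV (z t v : G) : Prop := v = 1 ∨ v = z ∨ v = t ∨ v = z * t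

theorem VV.one : VV z t 1 := Or.inl rfl

/-- elements of `V` are trivial on all members over `z`, or act as `t` on all members -/
theorem VV.act {v : G} (hv : VV z t v) (hti : TI Om z t) (h : WM Om) :
    (∀ K, Mem Om z K → As K v 1) ∨ (∀ K, Mem Om z K → ∀ y, As K t y → As K v y) := by
  rcases hv with rfl | rfl | rfl | rfl
  · exact Or.inl fun K _ => As.self (one_mem _)
  · exact Or.inl fun K hK => hK.as_z h
  · exact Or.inr fun K _ y hy => hy
  · refine Or.inr fun K hK y hy => ?_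
    have := (hK.as_z h).mul hy
    rwa [one_mul] at this

/-- **(H)** -/
theorem TI.hh (hti : TI Om z t) (h : WM Om) (hK : Mem Om z K) (hL : Mem Om t L) (hL' : Mem Om t L') (hne : L ≠ L')
    (hy : As K t y) (hx : As L z x) (hx' : As L' z x') :
    ∃ K' y' v, Mem Om z K' ∧ K ≠ K' ∧ As K' t y' ∧ VV z t v ∧ x * x' = v * (y * y') := by
  have hyy := hti.sq_of_as h hK hy
  have hxx := (hti.symm h).sq_of_as h hL hx
  have hxx' := (hti.symm h).sq_of_as h hL' hx'
  have htt := hL.inZ.z2 h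
  have hzz := hK.inZ.z2 h
  obtain ⟨u, hu, huu, hxu⟩ := hL.exists_nc h hx.1 hxx
  obtain ⟨u', hu', huu', hxu'⟩ := hL'.exists_nc h hx'.1 hxx'
  have e1 := hti.conj_z h hL hx hu huu hxu
  have e2 := hti.conj_z h hL' hx' hu' huu' hxu'
  have f1 := hti.conj_y h hK hL hy hx hu huu hxu
  have f2 := hti.conj_y h hK hL' hy hx' hu' huu' hxu'
  obtain ⟨g, hg⟩ : ∃ g, g = u'⁻¹ * u := ⟨_, rfl⟩
  have hut : u * t = t * u := hL.comm_z h hu
  have hut' : u' * t = t * u' := hL'.comm_z h hu'
  have hgt : g * t = t * g := by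
    rw [hg, mul_assoc, hut, ← mul_assoc, ← mul_assoc]
    congr 1
    rw [inv_mul_eq_iff_eq_mul, ← mul_assoc, hut', mul_inv_cancel_right]
  have hgz : g * z = z * g := by
    have e3 : u'⁻¹ * (z * t) * u' = z := by rw [← e2]; group
    rw [hg]
    calc u'⁻¹ * u * z = u'⁻¹ * (u * z * u⁻¹) * u := by group
      _ = u'⁻¹ * (z * t) * u := by rw [e1]
      _ = (u'⁻¹ * (z * t) * u') * (u'⁻¹ * u) := by group
      _ = _ := by rw [e3]
  have hK' : Mem Om z (cj g K) := hK.cj_comm h hgz
  have hy' : As (cj g K) t (g * y * g⁻¹) := hy.conj_comm hgt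
  have hxc : x * x' = x' * x := hL.comm hL' h hne hx.1 hx'.1
  have hux' : u * x' = x' * u := hL.comm hL' h hne hu hx'.1
  have hxu'c : x * u' = u' * x := hL.comm hL' h hne hx.1 hu'
  have htx : t * x = x * t := (hL.comm_z h hx.1).symm
  have htx' : t * x' = x' * t := (hL'.comm_z h hx'.1).symm
  -- `g y g⁻¹ = t^δ x x' y`
  have h1 : g * y * g⁻¹ = x * x' * y ∨ g * y * g⁻¹ = t * (x * x' * y) := by
    have h3 : x' * u' * x'⁻¹ = t * u' := hL'.anti h hu' huu' hx'.1 hxx' (fun h3 => hxu' h3.symm)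
    have h4 : u'⁻¹ * x' * u' = t * x' := by
      have h5 : u' * x' * u'⁻¹ = t * x' := hL'.anti h hx'.1 hxx' hu' huu' hxu'
      have h6 : u'⁻¹ * (u' * x' * u'⁻¹) * u' = x' := by group
      rw [h5] at h6
      have h7 : u'⁻¹ * (t * x') * u' = t * (u'⁻¹ * x' * u') := by
        have h8 : u'⁻¹ * t = t * u'⁻¹ := by
          rw [inv_mul_eq_iff_eq_mul, ← mul_assoc, hut', mul_inv_cancel_right]
        calc u'⁻¹ * (t * x') * u' = (u'⁻¹ * t) * x' * u' := by group
          _ = (t * u'⁻¹) * x' * u' := by rw [h8]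
          _ = _ := by group
      rw [h7] at h6
      calc u'⁻¹ * x' * u' = (t * t) * (u'⁻¹ * x' * u') := by rw [htt, one_mul]
        _ = t * (t * (u'⁻¹ * x' * u')) := by group
        _ = t * x' := by rw [h6]
    have h8 : u'⁻¹ * t * u' = t := by
      rw [mul_assoc, ← hut', inv_mul_cancel_left]
    have h9 : u'⁻¹ * x * u' = x := by
      rw [mul_assoc, hxu'c, inv_mul_cancel_left]
    -- `u'⁻¹ y u'`
    have h10 : u'⁻¹ * y * u' = x' * y ∨ u'⁻¹ * y * u' = t * (x' * y) := by
      have h11 : ∀ w : G, t * (t * w) = w := fun w => by rw [← mul_assoc, htt, one_mul]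
      have h12 : x'⁻¹ = t * x' := hL'.inv_eq h hx'.1 hxx'
      rcases f2 with f2 | f2
      · -- `u' y u'⁻¹ = x' y`
        left
        have h13 : y = (u'⁻¹ * x' * u') * (u'⁻¹ * y * u') := by
          calc y = u'⁻¹ * (u' * y * u'⁻¹) * u' := by group
            _ = u'⁻¹ * (x' * y) * u' := by rw [f2]
            _ = _ := by group
        rw [h4] at h13
        have h14 : u'⁻¹ * y * u' = (t * x')⁻¹ * y := by
          rw [eq_inv_mul_iff_mul_eq]; exact h13.symm
        rw [h14, ← h12, inv_inv]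
      · right
        have h13 : y = (u'⁻¹ * t * u') * (u'⁻¹ * x' * u') * (u'⁻¹ * y * u') := by
          calc y = u'⁻¹ * (u' * y * u'⁻¹) * u' := by group
            _ = u'⁻¹ * (t * (x' * y)) * u' := by rw [f2]
            _ = _ := by group
        rw [h4, h8, h11] at h13
        have h14 : u'⁻¹ * y * u' = x'⁻¹ * y := by
          rw [eq_inv_mul_iff_mul_eq]; exact h13.symm
        rw [h14, h12, mul_assoc]
    have h15 : g * y * g⁻¹ = u'⁻¹ * (u * y * u⁻¹) * u' := by rw [hg]; group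
    have h16 : ∀ w, w = x * y ∨ w = t * (x * y) → u'⁻¹ * w * u' = x * (u'⁻¹ * y * u') ∨
        u'⁻¹ * w * u' = t * (x * (u'⁻¹ * y * u')) := by
      rintro w (rfl | rfl)
      · left
        calc u'⁻¹ * (x * y) * u' = (u'⁻¹ * x * u') * (u'⁻¹ * y * u') := by group
          _ = _ := by rw [h9]
      · right
        calc u'⁻¹ * (t * (x * y)) * u' = (u'⁻¹ * t * u') * ((u'⁻¹ * x * u') * (u'⁻¹ * y * u')) := by group
          _ = _ := by rw [h8, h9]
    have h11 : ∀ w : G, t * (t * w) = w := fun w => by rw [← mul_assoc, htt, one_mul]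
    have h17 : x * (t * (x' * y)) = t * (x * x' * y) := by
      calc x * (t * (x' * y)) = (x * t) * x' * y := by group
        _ = (t * x) * x' * y := by rw [htx]
        _ = _ := by group
    rw [h15]
    rcases h16 _ f1 with h18 | h18 <;> rcases h10 with h19 | h19 <;> rw [h18, h19]
    · left; group
    · right; exact h17
    · right; group
    · left; rw [h17, h11]
  -- `K' ≠ K`
  have hyx : x * x' * y = y * (x * x') := by
    have a1 := hti.yx h hK hL hy hx
    have a2 := hti.yx h hK hL' hy hx'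
    calc x * x' * y = x * (x' * y) := by group
      _ = x * (y * x') := by rw [a2]
      _ = (x * y) * x' := by group
      _ = (y * x) * x' := by rw [a1]
      _ = _ := by group
  have hKK' : K ≠ cj g K := by
    intro he
    have hy'' : As K t (g * y * g⁻¹) := by rw [he]; exact hy'
    have h2 : VV z t (x * x') := by
      -- `x x' y ∈ V y`
      have h3 : ∀ w, x * x' * y = w * y → x * x' = w := fun w hw => mul_right_cancel hw
      have h11 : ∀ w : G, t * (t * w) = w := fun w => by rw [← mul_assoc, htt, one_mul]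
      rcases hK.as_unique h hy hy'' with h4 | h4 <;> rcases h1 with h1 | h1
      · left; apply h3; rw [one_mul, ← h1, h4]
      · right; right; left; apply h3
        rw [h4] at h1
        rw [← h11 (x * x' * y), ← h1]
      · right; left; apply h3; rw [← h1, h4]
      · right; right; right; apply h3
        rw [h4] at h1
        rw [← h11 (x * x' * y), ← h1, ← mul_assoc, hti.comm]
    -- act on the members over `t`
    obtain ⟨L'', hL'', hn1, hn2⟩ := hL.third hL' h
    have h3 : As L (x * x') x := by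
      have := (As.self hx.1).mul (hL.as_one hL' h hne hx'.1)
      rwa [mul_one] at this
    have h4 : As L'' (x * x') 1 := by
      have := (hL''.as_one hL h hn1 hx.1).mul (hL''.as_one hL' h hn2 hx'.1)
      rwa [mul_one] at this
    have h2' : VV t z (x * x') := by
      rcases h2 with h2 | h2 | h2 | h2
      · exact Or.inl h2
      · exact Or.inr (Or.inr (Or.inl h2))
      · exact Or.inr (Or.inl h2)
      · exact Or.inr (Or.inr (Or.inr (by rw [h2, hti.comm])))
    rcases h2'.act (hti.symm h) h with h5 | h5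
    · exact hL.not_as_one h h3 hxx (h5 L hL)
    · obtain ⟨x'', hx'', hxx''⟩ := (hti.symm h).exists_as h hL''
      exact hL''.not_as_one h (h5 L'' hL'' x'' hx'') hxx'' h4
  refine ⟨cj g K, g * y * g⁻¹, ?_⟩
  -- `x x' = t^δ (g y g⁻¹) y⁻¹`
  have hyi : y⁻¹ = z * y := hK.inv_eq h hy.1 hyy
  have hyy' : y * (g * y * g⁻¹) = g * y * g⁻¹ * y := hK.comm hK' h hKK' hy.1 hy'.1
  have hzy' : z * (g * y * g⁻¹) = (g * y * g⁻¹) * z := (hK'.comm_z h hy'.1).symm
  have h11 : ∀ w : G, t * (t * w) = w := fun w => by rw [← mul_assoc, htt, one_mul]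
  rcases h1 with h1 | h1
  · refine ⟨z, hK', hKK', hy', Or.inr (Or.inl rfl), ?_⟩
    have h2 : x * x' = g * y * g⁻¹ * y⁻¹ := by rw [h1, mul_inv_cancel_right]
    rw [h2, hyi, hyy', ← mul_assoc, ← hzy', mul_assoc]
  · refine ⟨z * t, hK', hKK', hy', Or.inr (Or.inr (Or.inr rfl)), ?_⟩
    have h2 : x * x' = t * (g * y * g⁻¹ * y⁻¹) := by
      rw [h1]
      calc x * x' = t * (t * (x * x')) := (h11 _).symm
        _ = _ := by group
    rw [h2, hyi, hyy']
    calc t * (g * y * g⁻¹ * (z * y)) = t * ((g * y * g⁻¹ * z) * y) := by group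
      _ = t * ((z * (g * y * g⁻¹)) * y) := by rw [hzy']
      _ = (t * z) * (g * y * g⁻¹ * y) := by group
      _ = _ := by rw [hti.comm]

/-! ### `R_z` -/

/-- the components of an element of `R_z` -/
theorem Fr.as_prod {F : Fin 4 → Subgroup G} (f : Fr Om z F) (h : WM Om) {k : Fin 4 → G} (hk : ∀ i, k i ∈ F i)
    (i : Fin 4) : As (F i) (k 0 * k 1 * k 2 * k 3) (k i) := by
  have key : ∀ i j : Fin 4, As (F i) (k j) (if j = i then k i else 1) := by
    intro i j
    split_ifs with hij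
    · subst hij; exact As.self (hk j)
    · exact (f.mem i).as_one (f.mem j) h (f.ne (Ne.symm hij)) (hk j)
  have h1 := (((key i 0).mul (key i 1)).mul (key i 2)).mul (key i 3)
  fin_cases i <;> simpa using h1

/-- an element of `R_z` which centralises all members is `1` or `z` -/
theorem RZ_center (h : WM Om) (hz : InZ Om z) (hr : g ∈ RZ Om z) (hc : ∀ K, Mem Om z K → As K g 1) :
    g = 1 ∨ g = z := by
  obtain ⟨F, f⟩ := hz.exists_fr h
  obtain ⟨k, hk, rfl⟩ := (mem_RZ f h).1 hr
  have h1 : ∀ i, k i = 1 ∨ k i = z := fun i => (f.mem i).as_center h (f.as_prod h hk i) (hc _ (f.mem i))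
  have hzz := hz.z2 h
  rcases h1 0 with h2 | h2 <;> rcases h1 1 with h3 | h3 <;> rcases h1 2 with h4 | h4 <;> rcases h1 3 with h5 | h5 <;>
    rw [h2, h3, h4, h5] <;> simp [hzz]

/-- two elements of `R_z` with the same action on all members -/
theorem eq_or_of_as (h : WM Om) (hz : InZ Om z) (hg : g ∈ RZ Om z) (hn : n ∈ RZ Om z)
    (hc : ∀ K, Mem Om z K → ∃ y, As K g y ∧ As K n y) : n = g ∨ n = z * g := by
  have h1 : n * g⁻¹ ∈ RZ Om z := mul_mem hn (inv_mem hg)
  rcases RZ_center h hz h1 fun K hK => by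
    obtain ⟨y, h2, h3⟩ := hc K hK
    have := h3.mul h2.inv
    rwa [mul_inv_cancel] at this with h2 | h2
  · left; exact mul_inv_eq_one.1 h2
  · right; rw [mul_inv_eq_iff_eq_mul] at h2; exact h2

/-- `t ∈ Z ∩ R_z`, `t ≠ z` is of type I -/
theorem TI.of_mem_RZ (h : WM Om) (hz : InZ Om z) (ht : InZ Om t) (hne : z ≠ t) (hr : t ∈ RZ Om z) : TI Om z t := by
  refine ⟨hz, ht, hne, (RZ_le_centralizer h hr).symm, Inn.of_RZ hz h hr, fun K hK hc => ?_⟩
  rcases RZ_center h hz hr (fun M hM => As.one_iff.2 (InZ.cent_all hK ht h hne hc hM)) with h1 | h1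
  · exact ht.z1 h h1
  · exact hne h1.symm

theorem exists_as_of_inn (h : WM Om) (hK : Mem Om z K) (hi : Inn Om z g) : ∃ y, As K g y := by
  obtain ⟨a, qa⟩ := h.exists_q3 hK
  rcases qa.inner_cases (hi K hK) with h1 | ⟨j, h1⟩
  · exact ⟨1, one_mem _, fun k hk => by rw [h1 k hk]; group⟩
  · exact ⟨a j, qa.mem j, h1⟩

theorem exists_as_of_mem (h : WM Om) (hK : Mem Om z K) (hg : g ∈ RZ Om z) : ∃ y, As K g y :=
  exists_as_of_inn h hK (Inn.of_RZ hK.inZ h hg)

theorem VV.mem_of {v : G} (hv : VV z t v) (hz : InZ Om z) (h : WM Om) (ht : t ∈ RZ Om z) : v ∈ RZ Om z := by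
  rcases hv with rfl | rfl | rfl | rfl
  · exact one_mem _
  · exact z_mem_RZ hz h
  · exact ht
  · exact mul_mem (z_mem_RZ hz h) ht

theorem VV.mul {v w : G} (hzz : z * z = 1) (htt : t * t = 1) (hzt : z * t = t * z) (hv : VV z t v) (hw : VV z t w) :
    VV z t (v * w) := by
  have e1 : ∀ g : G, z * (z * g) = g := fun g => by rw [← mul_assoc, hzz, one_mul]
  have e2 : ∀ g : G, t * (t * g) = g := fun g => by rw [← mul_assoc, htt, one_mul]
  have e3 : ∀ g : G, t * (z * g) = z * (t * g) := fun g => by rw [← mul_assoc, ← hzt, mul_assoc]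
  rcases hv with rfl | rfl | rfl | rfl <;> rcases hw with rfl | rfl | rfl | rfl <;>
    simp only [VV, one_mul, mul_one, mul_assoc, hzz, htt, e1, e3, ← hzt, true_or, or_true]

/-- **(1.4)** a type I neighbour of `z` lies in `R_z` -/
theorem TI.mem_RZ (hti : TI Om z t) (h : WM Om) : t ∈ RZ Om z := by
  obtain ⟨L, hL⟩ := hti.inT
  obtain ⟨L', hL', hne⟩ := hL.other h
  obtain ⟨K, hK⟩ := hti.inZ
  obtain ⟨x, hx, hxx⟩ := (hti.symm h).exists_as h hL
  obtain ⟨x', hx', hxx'⟩ := (hti.symm h).exists_as h hL'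
  obtain ⟨y0, hy0, hyy0⟩ := hti.exists_as h hK
  obtain ⟨K', y1, v, hK', hKK', hy1, hv, e1⟩ := hti.hh h hK hL hL' hne hy0 hx hx'
  obtain ⟨F, f, rfl, rfl⟩ := hK.exists_fr2 hK' h hKK'
  obtain ⟨y2, hy2, hyy2⟩ := hti.exists_as h (f.mem 2)
  obtain ⟨y3, hy3, hyy3⟩ := hti.exists_as h (f.mem 3)
  have hyy1 := hti.sq_of_as h (f.mem 1) hy1
  obtain ⟨K'', w, v', hK'', hne2, hw, hv', e2⟩ := hti.hh h (f.mem 2) hL hL' hne hy2 hx hx'
  obtain ⟨j, rfl⟩ := f.cov K'' hK''
  have hzz := hK.inZ.z2 h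
  have htt := hL.inZ.z2 h
  have hzt := hti.comm
  have hz1 := hK.inZ.z1 h
  -- actions
  have as1 : ∀ {i j : Fin 4} {x : G}, i ≠ j → x ∈ F j → As (F i) x 1 := fun hij hx =>
    (f.mem _).as_one (f.mem _) h (f.ne hij) hx
  have e : v * (y0 * y1) = v' * (y2 * w) := e1.symm.trans e2
  have hj : j = 3 := by
    have hj2 : j ≠ 2 := fun hh => hne2 (by rw [hh])
    -- `j = i ∈ {0, 1}`
    have key : ∀ i i' : Fin 4, i ≠ i' → i ≠ 2 → i' ≠ 2 → i ≠ 3 → i' ≠ 3 → ∀ p q : G, As (F i) t p → As (F i') t q →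
        v * (p * q) = v' * (y2 * w) → j = i → False := by
      intro i i' hii hi2 hi2' hi3 hi3' p q hp hq he hji
      subst hji
      have hqq := hti.sq_of_as h (f.mem i') hq
      have a1 : As (F i') (v⁻¹ * v' * (y2 * w)) q := by
        have h1 : v⁻¹ * v' * (y2 * w) = p * q := by rw [mul_assoc, ← he, inv_mul_cancel_left]
        rw [h1]
        have := (as1 (Ne.symm hii) hp.1).mul (As.self hq.1)
        rwa [one_mul] at this
      have a2 : As (F i') (y2 * w) 1 := by
        have := (as1 hi2' hy2.1).mul (as1 (Ne.symm hii) hw.1)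
        rwa [one_mul] at this
      have a3 : As (F i') (v⁻¹ * v') q := by
        have := a1.mul a2.inv
        rwa [mul_inv_cancel_right, inv_one, mul_one] at this
      have a4 : As (F 3) (v⁻¹ * v') 1 := by
        have h1 : v⁻¹ * v' = p * q * (y2 * w)⁻¹ := by
          rw [eq_mul_inv_iff_mul_eq, mul_assoc, ← he, inv_mul_cancel_left]
        rw [h1]
        have := ((as1 (Ne.symm hi3) hp.1).mul (as1 (Ne.symm hi3') hq.1)).mul
          ((as1 (show (3 : Fin 4) ≠ 2 by decide) hy2.1).mul (as1 (Ne.symm hi3) hw.1)).inv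
        simpa using this
      have hvi : v⁻¹ = v := by
        rcases hv with rfl | rfl | rfl | rfl
        · simp
        · exact inv_eq_of_mul_eq_one_right hzz
        · exact inv_eq_of_mul_eq_one_right htt
        · apply inv_eq_of_mul_eq_one_right
          calc z * t * (z * t) = z * (t * z) * t := by group
            _ = (z * z) * (t * t) := by rw [← hzt]; group
            _ = 1 := by rw [hzz, htt, one_mul]
      have h5 : VV z t (v⁻¹ * v') := by rw [hvi]; exact hv.mul hzz htt hzt hv'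
      rcases h5.act hti h with h6 | h6
      · exact (f.mem i').not_as_one h a3 hqq (h6 _ (f.mem i'))
      · exact (f.mem 3).not_as_one h (h6 _ (f.mem 3) _ hy3) hyy3 a4
    by_contra hj3
    have h01 : j = 0 ∨ j = 1 := by
      have hf : ∀ j : Fin 4, j ≠ 2 → j ≠ 3 → j = 0 ∨ j = 1 := by decide
      exact hf j hj2 hj3
    rcases h01 with h0 | h0
    · exact key 0 1 (by decide) (by decide) (by decide) (by decide) (by decide) y0 y1 hy0 hy1 e h0
    · refine key 1 0 (by decide) (by decide) (by decide) (by decide) (by decide) y1 y0 hy1 hy0 ?_ h0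
      rw [← e, (f.mem 1).comm (f.mem 0) h (f.ne (by decide)) hy1.1 hy0.1]
  subst hj
  -- `w0 = y0 y1 y2 w ∈ V`
  have hww := hti.sq_of_as h (f.mem 3) hw
  have hRZ : ∀ {i : Fin 4} {x : G}, x ∈ F i → x ∈ RZ Om z := fun hx => (f.mem _).le_RZ hx
  have hvi : v⁻¹ = v := by
    rcases hv with rfl | rfl | rfl | rfl
    · simp
    · exact inv_eq_of_mul_eq_one_right hzz
    · exact inv_eq_of_mul_eq_one_right htt
    · apply inv_eq_of_mul_eq_one_right
      calc z * t * (z * t) = z * (t * z) * t := by group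
        _ = (z * z) * (t * t) := by rw [← hzt]; group
        _ = 1 := by rw [hzz, htt, one_mul]
  have h5 : VV z t (v⁻¹ * v') := by rw [hvi]; exact hv.mul hzz htt hzt hv'
  have h6 : v⁻¹ * v' = y0 * y1 * (y2 * w)⁻¹ := by
    rw [eq_mul_inv_iff_mul_eq, mul_assoc, ← e, inv_mul_cancel_left]
  have h7 : v⁻¹ * v' ∈ RZ Om z := by
    rw [h6]; exact mul_mem (mul_mem (hRZ hy0.1) (hRZ hy1.1)) (inv_mem (mul_mem (hRZ hy2.1) (hRZ hw.1)))
  have h8 : As (F 0) (v⁻¹ * v') y0 := by
    rw [h6]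
    have := ((As.self hy0.1).mul (as1 (show (0 : Fin 4) ≠ 1 by decide) hy1.1)).mul
      ((as1 (show (0 : Fin 4) ≠ 2 by decide) hy2.1).mul (as1 (show (0 : Fin 4) ≠ 3 by decide) hw.1)).inv
    simpa using this
  have h9 := (f.mem 0).not_as_one h h8 hyy0
  rcases h5 with h10 | h10 | h10 | h10
  · rw [h10] at h9; exact absurd (As.self (one_mem _)) h9
  · rw [h10] at h9; exact absurd ((f.mem 0).as_z h) h9
  · rwa [h10] at h7
  · rw [h10] at h7
    have h11 : t = z * (z * t) := by rw [← mul_assoc, hzz, one_mul]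
    rw [h11]
    exact mul_mem (z_mem_RZ hK.inZ h) h7

theorem TI.iff (h : WM Om) (hz : InZ Om z) : TI Om z t ↔ InZ Om t ∧ z ≠ t ∧ t ∈ RZ Om z :=
  ⟨fun h1 => ⟨h1.inT, h1.ne, h1.mem_RZ h⟩, fun h1 => TI.of_mem_RZ h hz h1.1 h1.2.1 h1.2.2⟩

/-- **(1.5)** `x x' ∈ R_z` -/
theorem TI.xx_mem (hti : TI Om z t) (h : WM Om) (hL : Mem Om t L) (hL' : Mem Om t L') (hne : L ≠ L')
    (hx : As L z x) (hx' : As L' z x') : x * x' ∈ RZ Om z := by
  obtain ⟨K, hK⟩ := hti.inZ
  obtain ⟨y, hy, -⟩ := hti.exists_as h hK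
  obtain ⟨K', y', v, hK', -, hy', hv, e1⟩ := hti.hh h hK hL hL' hne hy hx hx'
  rw [e1]
  exact mul_mem (hv.mem_of hK.inZ h (hti.mem_RZ h)) (mul_mem (hK.le_RZ hy.1) (hK'.le_RZ hy'.1))

/-- `x x'` is `v y y'` with `K` prescribed, two other members on which it acts like `v` -/
theorem TI.xx_not_cent (hti : TI Om z t) (h : WM Om) (hL : Mem Om t L) (hL' : Mem Om t L') (hne : L ≠ L')
    (hx : As L z x) (hx' : As L' z x') : ¬ ∀ K, Mem Om z K → As K (x * x') 1 := by
  intro hc
  obtain ⟨K, hK⟩ := hti.inZ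
  obtain ⟨y, hy, hyy⟩ := hti.exists_as h hK
  obtain ⟨K', y', v, hK', hKK', hy', hv, e1⟩ := hti.hh h hK hL hL' hne hy hx hx'
  obtain ⟨M, hM, hn1, hn2⟩ := hK.third hK' h
  rw [e1] at hc
  have a1 : As K (y * y') y := by
    have := (As.self hy.1).mul (hK.as_one hK' h hKK' hy'.1)
    rwa [mul_one] at this
  have a2 : As M (y * y') 1 := by
    have := (hM.as_one hK h hn1 hy.1).mul (hM.as_one hK' h hn2 hy'.1)
    rwa [mul_one] at this
  rcases hv.act hti h with h5 | h5
  · have := (h5 K hK).mul a1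
    rw [one_mul] at this
    exact hK.not_as_one h this hyy (hc K hK)
  · obtain ⟨m, hm, hmm⟩ := hti.exists_as h hM
    have := (h5 M hM m hm).mul a2
    rw [mul_one] at this
    exact hM.not_as_one h this hmm (hc M hM)

end

end Cfsg.Agent.Cit.Nil.RI
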